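import Mathlib.GroupTheory.Sylow
import Mathlib.GroupTheory.Nilpotent
import Mathlib.Data.Set.Card
import Mathlib.Order.Preorder.Finite
import Mathlib.Data.Finset.Max
import Mathlib.Data.Set.Finite.Lemmas

/-!
The Baer–Suzuki theorem, after Alperin and Lyons.
-/

namespace Cfsg.Agent.BaerSuzuki

variable {G : Type*} [Group G] [Finite G] {p : ℕ} [Fact p.Prime]

/-- The conjugates of `X` inside the subgroup `H`. -/
def confined (X H : Subgroup G) : Set (Subgroup G) :=
  {Y | (∃ g : G, Y = X.map (MulAut.conj g).toMonoidHom) ∧ Y ≤ H}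

omit [Finite G] in
theorem map_conj_map (X : Subgroup G) (g h : G) :
    (X.map (MulAut.conj g).toMonoidHom).map (MulAut.conj h).toMonoidHom =
      X.map (MulAut.conj (h * g)).toMonoidHom := by
  rw [Subgroup.map_map]; congr 1; ext x; simp [mul_assoc]

theorem finite_subgroups : Finite (Subgroup G) :=
  Finite.of_injective (fun H : Subgroup G => (H : Set G)) SetLike.coe_injective

theorem ncard_confined_eq (X : Subgroup G) (P Q : Sylow p G) :
    (confined X (P : Subgroup G)).ncard = (confined X (Q : Subgroup G)).ncard := by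
  have key : ∀ P Q : Sylow p G,
      (confined X (P : Subgroup G)).ncard ≤ (confined X (Q : Subgroup G)).ncard := by
    intro P Q
    obtain ⟨c, rfl⟩ := MulAction.exists_smul_eq G P Q
    haveI := finite_subgroups (G := G)
    refine Set.ncard_le_ncard_of_injOn (fun Y => Y.map (MulAut.conj c).toMonoidHom) ?_
      (fun a _ b _ h => Subgroup.map_injective (MulAut.conj c).injective h) (Set.toFinite _)
    rintro Y ⟨⟨g, rfl⟩, hle⟩
    refine ⟨⟨c * g, map_conj_map X g c⟩, ?_⟩
    rintro _ ⟨y, hy, rfl⟩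
    rw [Sylow.smul_def, Sylow.pointwise_smul_def, Subgroup.mem_pointwise_smul_iff_inv_smul_mem]
    simpa [mul_assoc] using hle hy
  exact le_antisymm (key P Q) (key Q P)

/-- Some conjugate outside `E` in `P` normalizes the subgroup generated by `E`. -/
theorem exists_outside (X : Subgroup G) {P : Subgroup G} (hP : IsPGroup p P)
    {E : Set (Subgroup G)} (hE : E ⊂ confined X P) :
    ∃ Y ∈ confined X P, Y ∉ E ∧ Y ≤ Subgroup.normalizer ((sSup E : Subgroup G) : Set G) := by
  by_contra hno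
  push Not at hno
  set W : Subgroup G := sSup E with hW
  set U : Subgroup P := (Subgroup.normalizer (W : Set G)).subgroupOf P with hU
  obtain ⟨Y, hY, hYE⟩ := Set.exists_of_ssubset hE
  have hne : U ≠ ⊤ := by
    intro h
    refine hno Y hY hYE (le_trans hY.2 ?_)
    rwa [hU, Subgroup.subgroupOf_eq_top] at h
  have := hP.isNilpotent
  obtain ⟨g, hg, hgU⟩ :=
    SetLike.exists_of_lt (Group.normalizerCondition_of_isNilpotent U (lt_top_iff_ne_top.mpr hne))
  apply hgU
  show (g : G) ∈ Subgroup.normalizer (W : Set G)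
  refine Subgroup.mem_normalizer_fintype fun w hw => ?_
  suffices W.map (MulAut.conj (g : G)).toMonoidHom ≤ W from this ⟨w, hw, rfl⟩
  rw [Subgroup.map_le_iff_le_comap, hW, sSup_le_iff]
  intro Z hZ
  rw [← Subgroup.map_le_iff_le_comap]
  obtain ⟨⟨a, rfl⟩, hZP⟩ := hE.subset hZ
  refine le_sSup (by_contra fun hnot => ?_)
  have hmem : (X.map (MulAut.conj a).toMonoidHom).map (MulAut.conj (g : G)).toMonoidHom ∈ confined X P := by
    refine ⟨⟨(g : G) * a, map_conj_map X a g⟩, ?_⟩
    rintro _ ⟨y, hy, rfl⟩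
    simpa using mul_mem (mul_mem g.2 (hZP hy)) (inv_mem g.2)
  refine hno _ hmem hnot ?_
  rintro _ ⟨z, hz, rfl⟩
  have hzU : (⟨z, hZP hz⟩ : P) ∈ U := by
    show z ∈ Subgroup.normalizer (W : Set G)
    exact Subgroup.le_normalizer (H := W) (le_sSup (s := E) hZ hz)
  have := (Subgroup.mem_normalizer_iff.mp hg _).mp hzU
  simpa [hU, Subgroup.mem_subgroupOf] using this

/-- Baer–Suzuki: a `p`-subgroup generating a `p`-group with each conjugate lies in a normal
`p`-subgroup. -/
theorem baerSuzuki (X : Subgroup G) (hX : IsPGroup p X)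
    (h : ∀ g : G, IsPGroup p ↥(X ⊔ X.map (MulAut.conj g).toMonoidHom)) :
    ∃ N : Subgroup G, N.Normal ∧ IsPGroup p N ∧ X ≤ N := by
  haveI := finite_subgroups (G := G)
  have hpair : ∀ Y Z : Subgroup G, (∃ g : G, Y = X.map (MulAut.conj g).toMonoidHom) →
      (∃ g : G, Z = X.map (MulAut.conj g).toMonoidHom) → IsPGroup p ↥(Y ⊔ Z) := by
    rintro _ _ ⟨a, rfl⟩ ⟨b, rfl⟩
    have := (h (a⁻¹ * b)).map (MulAut.conj a).toMonoidHom
    rwa [Subgroup.map_sup, map_conj_map, mul_inv_cancel_left] at this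
  by_cases hall : ∀ P Q : Sylow p G, confined X (P : Subgroup G) = confined X (Q : Subgroup G)
  · obtain ⟨P₀⟩ : Nonempty (Sylow p G) := inferInstance
    refine ⟨Subgroup.normalClosure (X : Set G), Subgroup.normalClosure_normal, ?_,
      fun x hx => Subgroup.subset_normalClosure hx⟩
    refine P₀.2.to_le ?_
    rw [Subgroup.normalClosure, Subgroup.closure_le]
    intro y hy
    obtain ⟨x, hx, hc⟩ := Group.mem_conjugatesOfSet_iff.mp hy
    obtain ⟨g, rfl⟩ := isConj_iff.mp hc
    obtain ⟨R, hR⟩ := (hX.map (MulAut.conj g).toMonoidHom).exists_le_sylow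
    have hmem : X.map (MulAut.conj g).toMonoidHom ∈ confined X (R : Subgroup G) := ⟨⟨g, rfl⟩, hR⟩
    rw [hall R P₀] at hmem
    exact hmem.2 ⟨x, hx, by simp⟩
  push Not at hall
  obtain ⟨P₁, Q₁, hne₁⟩ := hall
  let S : Set (Sylow p G × Sylow p G) :=
    {PQ | confined X (PQ.1 : Subgroup G) ≠ confined X (PQ.2 : Subgroup G)}
  obtain ⟨⟨P, Q⟩, hPQ, hmax⟩ := Set.exists_max_image S
    (fun PQ => (confined X (PQ.1 : Subgroup G) ∩ confined X (PQ.2 : Subgroup G)).ncard)
    (Set.toFinite _) ⟨(P₁, Q₁), hne₁⟩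
  set E := confined X (P : Subgroup G) ∩ confined X (Q : Subgroup G) with hE
  have hssP : E ⊂ confined X (P : Subgroup G) := by
    refine ⟨Set.inter_subset_left, fun hle => hPQ ?_⟩
    exact Set.eq_of_subset_of_ncard_le (fun Y hY => (hle hY).2) (ncard_confined_eq X P Q).symm.le
      (Set.toFinite _)
  have hssQ : E ⊂ confined X (Q : Subgroup G) := by
    refine ⟨Set.inter_subset_right, fun hle => hPQ ?_⟩
    exact (Set.eq_of_subset_of_ncard_le (fun Y hY => (hle hY).1) (ncard_confined_eq X P Q).le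
      (Set.toFinite _)).symm
  obtain ⟨Y, hY, hYE, hYn⟩ := exists_outside X P.2 hssP
  obtain ⟨Z, hZ, hZE, hZn⟩ := exists_outside X Q.2 hssQ
  have hWp : IsPGroup p ↥(sSup E : Subgroup G) :=
    P.2.to_le (sSup_le fun V hV => hV.1.2)
  have hbig : IsPGroup p ↥((Y ⊔ Z) ⊔ sSup E) :=
    (hpair Y Z hY.1 hZ.1).to_sup_of_normal_right' hWp (sup_le hYn hZn)
  obtain ⟨R, hR⟩ := hbig.exists_le_sylow
  have hYR : Y ∈ confined X (R : Subgroup G) :=
    ⟨hY.1, (le_sup_left.trans le_sup_left).trans hR⟩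
  have hZR : Z ∈ confined X (R : Subgroup G) :=
    ⟨hZ.1, (le_sup_right.trans le_sup_left).trans hR⟩
  have hER : E ⊆ confined X (R : Subgroup G) := fun V hV =>
    ⟨hV.1.1, ((le_sSup hV).trans le_sup_right).trans hR⟩
  have hPR : (P, R) ∈ S := fun e => hZE ⟨by rw [e]; exact hZR, hZ⟩
  have hlt : E.ncard < (confined X (P : Subgroup G) ∩ confined X (R : Subgroup G)).ncard := by
    refine Set.ncard_lt_ncard ⟨fun V hV => ⟨hV.1, hER hV⟩, fun hle => hYE (hle ⟨hY, hYR⟩)⟩
      (Set.toFinite _)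
  exact absurd (hmax (P, R) hPR) (not_le.mpr hlt)

end Cfsg.Agent.BaerSuzuki
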