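import Cfsg.Agent.Lib.Involutions.Basic
import Mathlib.Data.ZMod.Basic

/-!
The subgroup generated by two involutions is dihedral.
-/

namespace Cfsg.Agent.Invol

variable {G : Type*} [Group G]

/-- `x` is no power of `x * y` for distinct involutions `x`, `y`. -/
theorem not_mem_zpowers {x y : G} (hx : orderOf x = 2) (hy : orderOf y = 2) (hxy : x ≠ y) :
    x ∉ Subgroup.zpowers (x * y) := by
  intro hmem
  obtain ⟨k, hk⟩ := Subgroup.mem_zpowers_iff.mp hmem
  have hc : Commute x (x * y) := by
    conv_lhs => rw [← hk]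
    exact Commute.zpow_self _ _
  have h2 : (x * y) * (x * y) = 1 := by
    have h := conj_mul hx hy
    rw [hc.eq, mul_inv_cancel_right] at h
    exact eq_inv_iff_mul_eq_one.mp h
  rcases Int.even_or_odd' k with ⟨j, hj | hj⟩
  · rw [hj, zpow_mul, zpow_two, h2, one_zpow] at hk
    exact ne_one hx hk.symm
  · rw [hj, zpow_add, zpow_mul, zpow_two, h2, one_zpow, one_mul, zpow_one] at hk
    exact ne_one hy (mul_eq_left.mp hk)

/-- The homomorphism from a dihedral group onto the group generated by two involutions. -/
noncomputable def powHom (x y : G) : ZMod (orderOf (x * y)) →+ Additive G :=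
  ZMod.lift _ ⟨zmultiplesHom _ (Additive.ofMul (x * y)), by
    rw [zmultiplesHom_apply, natCast_zsmul, ← ofMul_pow, pow_orderOf_eq_one, ofMul_one]⟩

theorem powHom_intCast (x y : G) (k : ℤ) :
    Additive.toMul (powHom x y (k : ZMod (orderOf (x * y)))) = (x * y) ^ k := by
  simp [powHom, zmultiplesHom_apply]

theorem exists_intCast {n : ℕ} (i : ZMod n) : ∃ k : ℤ, (k : ZMod n) = i := ZMod.intCast_surjective i

/-- The map from the dihedral group. -/
noncomputable def dihFun (x y : G) : DihedralGroup (orderOf (x * y)) → G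
  | .r i => Additive.toMul (powHom x y i)
  | .sr i => x * Additive.toMul (powHom x y i)

/-- The map from the dihedral group as a homomorphism. -/
noncomputable def dihHom {x y : G} (hx : orderOf x = 2) (hy : orderOf y = 2) :
    DihedralGroup (orderOf (x * y)) →* G :=
  MonoidHom.mk' (dihFun x y) <| by
    have h := conj_mul hx hy
    intro a b
    rcases a with i | i <;> rcases b with j | j <;>
      obtain ⟨k, rfl⟩ := exists_intCast i <;> obtain ⟨l, rfl⟩ := exists_intCast j <;>
      simp only [DihedralGroup.r_mul_r, DihedralGroup.r_mul_sr, DihedralGroup.sr_mul_r,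
        DihedralGroup.sr_mul_sr, dihFun, ← Int.cast_add, ← Int.cast_sub, powHom_intCast]
    · rw [zpow_add]
    · rw [sub_eq_add_neg, zpow_add, ← mul_assoc, ← mul_assoc, ← neg_neg l, ← neg_neg k,
        ← swap_zpow h (-k)]
      simp only [neg_neg, mul_assoc, ← zpow_add]; ring_nf
    · rw [zpow_add, mul_assoc]
    · rw [mul_assoc, ← mul_assoc ((x * y) ^ k), ← neg_neg k, ← swap_zpow h (-k)]
      simp only [neg_neg, ← mul_assoc, mul_self hx, one_mul]
      rw [← zpow_add]; ring_nf

theorem dihHom_injective {x y : G} (hx : orderOf x = 2) (hy : orderOf y = 2) (hxy : x ≠ y) :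
    Function.Injective (dihHom hx hy) := by
  rw [injective_iff_map_eq_one]
  intro d hd
  rcases d with i | i <;> obtain ⟨k, rfl⟩ := exists_intCast i
  · change Additive.toMul (powHom x y k) = 1 at hd
    rw [powHom_intCast, ← orderOf_dvd_iff_zpow_eq_one] at hd
    rw [DihedralGroup.one_def]
    congr 1
    exact (ZMod.intCast_zmod_eq_zero_iff_dvd _ _).mpr hd
  · change x * Additive.toMul (powHom x y k) = 1 at hd
    rw [powHom_intCast, mul_eq_one_iff_eq_inv, ← zpow_neg] at hd
    exact absurd ⟨-k, hd.symm⟩ (not_mem_zpowers hx hy hxy)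

theorem dihHom_range {x y : G} (hx : orderOf x = 2) (hy : orderOf y = 2) :
    (dihHom hx hy).range = Subgroup.closure ({x, y} : Set G) := by
  refine le_antisymm ?_ ((Subgroup.closure_le _).mpr ?_)
  · rintro _ ⟨d, rfl⟩
    rcases d with i | i <;> obtain ⟨k, rfl⟩ := exists_intCast i
    · change Additive.toMul (powHom x y k) ∈ _
      rw [powHom_intCast]; exact zpow_mul_mem_closure_pair x y k
    · change x * Additive.toMul (powHom x y k) ∈ _
      rw [powHom_intCast]
      exact mul_mem (Subgroup.subset_closure (by simp)) (zpow_mul_mem_closure_pair x y k)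
  · rintro z (rfl | rfl)
    · refine ⟨.sr ((0:ℤ) : ZMod _), ?_⟩
      change z * Additive.toMul (powHom z y _) = z
      rw [powHom_intCast, zpow_zero, mul_one]
    · refine ⟨.sr ((1:ℤ) : ZMod _), ?_⟩
      change x * Additive.toMul (powHom x z _) = z
      rw [powHom_intCast, zpow_one, ← mul_assoc, mul_self hx, one_mul]

end Cfsg.Agent.Invol
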