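import Cfsg.Agent.Lib.Involutions.SwapCount
import Mathlib.GroupTheory.FixedPointFree
import Mathlib.GroupTheory.SpecificGroups.Cyclic

/-!
Groups in which the centralizer of every involution is an elementary abelian 2-group.
-/

namespace Cfsg.Agent.Invol

variable {G : Type*} [Group G] [Finite G]

/-- The hypotheses: a non-cyclic non-normal Sylow 2-subgroup and elementary centralizers. -/
structure ElemCase (T : Sylow 2 G) : Prop where
  noncyc : ¬ IsCyclic (T : Subgroup G)
  nonnormal : ¬ (T : Subgroup G).Normal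
  cent : ∀ t : G, orderOf t = 2 → IsMulCommutative (Subgroup.centralizer ({t} : Set G)) ∧
    ∀ c ∈ Subgroup.centralizer ({t} : Set G), c ^ 2 = 1

namespace ElemCase

variable {T : Sylow 2 G} (hT : ElemCase T)
include hT

/-- The normalizer of the Sylow subgroup. -/
abbrev N (_ : ElemCase T) : Subgroup G := Subgroup.normalizer ((T : Subgroup G) : Set G)

theorem commute_of_invol {t a b : G} (ht : orderOf t = 2) (ha : Commute a t) (hb : Commute b t) :
    Commute a b :=
  congrArg Subtype.val ((hT.cent t ht).1.is_comm.comm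
    ⟨a, Subgroup.mem_centralizer_singleton_iff.mpr ha.eq⟩
    ⟨b, Subgroup.mem_centralizer_singleton_iff.mpr hb.eq⟩)

theorem sq_of_commute {t a : G} (ht : orderOf t = 2) (ha : Commute a t) : a * a = 1 := by
  rw [← pow_two]
  exact (hT.cent t ht).2 a (Subgroup.mem_centralizer_singleton_iff.mpr ha.eq)

/-- A nontrivial element of odd order commutes with no involution. -/
theorem odd_eq_one {t a : G} (ht : orderOf t = 2) (ha : Commute a t) (ho : Odd (orderOf a)) :
    a = 1 :=
  eq_one_of_sq_of_odd ho (by rw [pow_two]; exact hT.sq_of_commute ht ha)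

theorem exists_central : ∃ z ∈ (T : Subgroup G), orderOf z = 2 ∧ ∀ y ∈ (T : Subgroup G), Commute y z := by
  have hnt : Nontrivial (T : Subgroup G) := by
    rw [Subgroup.nontrivial_iff_ne_bot]
    intro h
    exact hT.noncyc (by rw [h]; exact isCyclic_of_subsingleton)
  obtain ⟨k, hk⟩ := IsPGroup.iff_card.mp (T.2.to_subgroup (Subgroup.center (T : Subgroup G)))
  have := T.2.center_nontrivial
  have h1 : 1 < Nat.card (Subgroup.center (T : Subgroup G)) := Finite.one_lt_card
  obtain ⟨z, hz⟩ := exists_prime_orderOf_dvd_card' (p := 2)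
    (show 2 ∣ Nat.card (Subgroup.center (T : Subgroup G)) by
      rw [hk] at h1 ⊢
      exact dvd_pow_self 2 (by rintro rfl; simp at h1))
  refine ⟨((z : (T : Subgroup G)) : G), (z : (T : Subgroup G)).2, ?_, fun y hy => ?_⟩
  · rw [Subgroup.orderOf_coe, Subgroup.orderOf_coe, hz]
  · exact congrArg Subtype.val (Subgroup.mem_center_iff.mp z.2 ⟨y, hy⟩)

theorem comm_T {a b : G} (ha : a ∈ (T : Subgroup G)) (hb : b ∈ (T : Subgroup G)) : Commute a b := by
  obtain ⟨z, -, hzo, hzc⟩ := hT.exists_central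
  exact hT.commute_of_invol hzo (hzc a ha) (hzc b hb)

theorem sq_T {a : G} (ha : a ∈ (T : Subgroup G)) : a * a = 1 := by
  obtain ⟨z, -, hzo, hzc⟩ := hT.exists_central
  exact hT.sq_of_commute hzo (hzc a ha)

theorem order_T {a : G} (ha : a ∈ (T : Subgroup G)) (h1 : a ≠ 1) : orderOf a = 2 :=
  order_two_of_sq (hT.sq_T ha) h1

theorem centralizer_eq {t : G} (htT : t ∈ (T : Subgroup G)) (h1 : t ≠ 1) :
    Subgroup.centralizer ({t} : Set G) = (T : Subgroup G) := by
  have ht := hT.order_T htT h1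
  refine T.3 ?_ fun y hy => Subgroup.mem_centralizer_singleton_iff.mpr (hT.comm_T hy htT).eq
  exact fun c => ⟨1, Subtype.ext (by simpa using (hT.cent t ht).2 c c.2)⟩

theorem four_le : 4 ≤ Nat.card T := by
  obtain ⟨k, hk⟩ := IsPGroup.iff_card.mp T.2
  rcases k with _ | _ | k
  · exfalso
    have h0 : Nat.card (T : Subgroup G) = 1 := by rw [hk, pow_zero]
    have := (Nat.card_eq_one_iff_unique.mp h0).1
    exact hT.noncyc isCyclic_of_subsingleton
  · exact absurd (isCyclic_of_prime_card (p := 2) (by rw [hk, pow_one])) hT.noncyc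
  · rw [hk]
    calc (4:ℕ) = 2 ^ 2 := by norm_num
      _ ≤ 2 ^ (k + 2) := Nat.pow_le_pow_right (by norm_num) (by omega)

theorem invol_mem {t : G} (ht : orderOf t = 2) (htN : t ∈ hT.N) : t ∈ (T : Subgroup G) := by
  have hp : IsPGroup 2 (Subgroup.zpowers t) :=
    IsPGroup.of_card (n := 1) (by rw [Nat.card_zpowers, ht, pow_one])
  have h := hp.inf_normalizer_sylow T
  exact (le_inf le_rfl (Subgroup.zpowers_le.mpr htN)).trans (h.le.trans inf_le_right)
    (Subgroup.mem_zpowers t)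

theorem stronglyEmbedded : Cfsg.IsStronglyEmbedded hT.N := by
  obtain ⟨z, hzT, hzo, -⟩ := hT.exists_central
  refine se_of_centralizers ?_ (T.subtype Subgroup.le_normalizer)
    (even_of_invol_mem hzo (Subgroup.le_normalizer hzT)) ?_ ?_
  · exact fun h => hT.nonnormal (Subgroup.normalizer_eq_top_iff.mp h)
  · rw [Sylow.coe_subtype, Subgroup.map_subgroupOf_eq_of_le Subgroup.le_normalizer]
  · intro t htN ht
    rw [hT.centralizer_eq (hT.invol_mem ht htN) (ne_one ht)]
    exact Subgroup.le_normalizer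

theorem card_invol : Nat.card {t : G // orderOf t = 2 ∧ t ∈ hT.N} = Nat.card T - 1 := by
  classical
  have := Fintype.ofFinite (T : Subgroup G)
  have e : {t : G // orderOf t = 2 ∧ t ∈ hT.N} ≃ {a : (T : Subgroup G) // a ≠ 1} :=
    { toFun := fun t => ⟨⟨t.1, hT.invol_mem t.2.1 t.2.2⟩, fun h => ne_one t.2.1 (congrArg Subtype.val h)⟩
      invFun := fun a => ⟨a.1.1, hT.order_T a.1.2 (fun h => a.2 (Subtype.ext h)),
        Subgroup.le_normalizer a.1.2⟩
      left_inv := fun _ => rfl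
      right_inv := fun _ => rfl }
  show _ = Nat.card (T : Subgroup G) - 1
  rw [Nat.card_congr e, Nat.card_eq_fintype_card, Fintype.card_subtype_compl, Fintype.card_subtype_eq,
    ← Nat.card_eq_fintype_card]

/-- Two involutions fixing the same point commute. -/
theorem commute_fix {t s : G} (ht : orderOf t = 2) (hs : orderOf s = 2) {z : G ⧸ hT.N}
    (htz : t • z = z) (hsz : s • z = z) : Commute t s := by
  induction z using QuotientGroup.induction_on with
  | _ g =>
    rw [MulAction.Quotient.smul_mk, QuotientGroup.eq, smul_eq_mul, mul_inv_rev] at htz hsz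
    rw [inv_self ht] at htz
    rw [inv_self hs] at hsz
    have h := hT.comm_T (hT.invol_mem (by rw [show g⁻¹ * t * g = g⁻¹ * t * g⁻¹⁻¹ by group, order_conj, ht]) htz)
      (hT.invol_mem (by rw [show g⁻¹ * s * g = g⁻¹ * s * g⁻¹⁻¹ by group, order_conj, hs]) hsz)
    show t * s = s * t
    calc t * s = g * (g⁻¹ * t * g * (g⁻¹ * s * g)) * g⁻¹ := by group
      _ = g * (g⁻¹ * s * g * (g⁻¹ * t * g)) * g⁻¹ := by rw [h.eq]
      _ = s * t := by group

omit hT

/-- The stabilizer of two points. -/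
abbrev Stab2 (hT : ElemCase T) (x y : G ⧸ hT.N) : Subgroup G :=
  MulAction.stabilizer G x ⊓ MulAction.stabilizer G y

include hT

theorem swap_back {x y : G ⧸ hT.N} (w : SwapInv x y) : w.1 • y = x := by
  obtain ⟨w, hw, hwx⟩ := w
  show w • y = x
  rw [← hwx, ← mul_smul, mul_self hw, one_smul]

theorem no_invol {x y : G ⧸ hT.N} (hxy : x ≠ y) {d : G} (hd : d ∈ hT.Stab2 x y) : orderOf d ≠ 2 :=
  fun h => hxy (se_fix_unique hT.stronglyEmbedded h hd.1 hd.2)

theorem odd_stab {x y : G ⧸ hT.N} (hxy : x ≠ y) : Odd (Nat.card (hT.Stab2 x y)) := by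
  rw [← Nat.not_even_iff_odd]
  intro h
  obtain ⟨t, htm, ht⟩ := exists_invol h
  exact hT.no_invol hxy htm ht

theorem odd_of_mem {x y : G ⧸ hT.N} (hxy : x ≠ y) {d : G} (hd : d ∈ hT.Stab2 x y) :
    Odd (orderOf d) :=
  (hT.odd_stab hxy).of_dvd_nat (Subgroup.orderOf_mk d hd ▸ orderOf_dvd_natCard _)

theorem stab_free {x y : G ⧸ hT.N} (hxy : x ≠ y) {d t : G} (hd : d ∈ hT.Stab2 x y)
    (ht : orderOf t = 2) (hc : Commute d t) : d = 1 :=
  hT.odd_eq_one ht hc (hT.odd_of_mem hxy hd)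

/-- Two-point stabilizers act regularly on the involutions fixing one of the points. -/
theorem stab_bijective {x y : G ⧸ hT.N} (hxy : x ≠ y) (s : FixInv x) :
    Function.Bijective (fun d : hT.Stab2 x y =>
      (⟨(d : G) * s.1 * (d : G)⁻¹, by rw [order_conj, s.2.1], by
        have h : (d : G)⁻¹ • x = x := inv_smul_eq_iff.mpr d.2.1.symm
        rw [mul_smul, mul_smul, h, s.2.2]; exact d.2.1⟩ : FixInv x)) := by
  constructor
  · intro a b h
    have h' : (a : G) * s.1 * (a : G)⁻¹ = (b : G) * s.1 * (b : G)⁻¹ := Subtype.ext_iff.mp h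
    have hc : Commute ((b : G)⁻¹ * a) s.1 := by
      show _ = _
      calc (b : G)⁻¹ * a * s.1 = (b : G)⁻¹ * ((a : G) * s.1 * (a : G)⁻¹) * a := by group
        _ = (b : G)⁻¹ * ((b : G) * s.1 * (b : G)⁻¹) * a := by rw [h']
        _ = s.1 * ((b : G)⁻¹ * a) := by group
    have := hT.stab_free hxy (mul_mem (inv_mem b.2) a.2) s.2.1 hc
    exact Subtype.ext (inv_mul_eq_one.mp this).symm
  · intro t
    obtain ⟨v⟩ : Nonempty (SwapInv y x) := by
      apply (Nat.card_pos_iff.mp ?_).1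
      rw [card_swapInv hT.stronglyEmbedded hxy.symm, hT.card_invol]
      have := hT.four_le
      omega
    have hvx : v.1 • x = y := hT.swap_back v
    obtain ⟨w, hw⟩ := (swap_conj_bijective hT.stronglyEmbedded hxy s).2
      ⟨v.1 * t.1 * v.1⁻¹, by rw [order_conj, t.2.1], by
        rw [inv_self v.2.1, mul_smul, mul_smul, v.2.2, t.2.2, hvx]⟩
    have hw' : w.1 * s.1 * w.1⁻¹ = v.1 * t.1 * v.1⁻¹ := Subtype.ext_iff.mp hw
    refine ⟨⟨v.1 * w.1, ?_, ?_⟩, Subtype.ext ?_⟩
    · show (v.1 * w.1) • x = x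
      rw [mul_smul, w.2.2, v.2.2]
    · show (v.1 * w.1) • y = y
      rw [mul_smul, hT.swap_back w, hvx]
    · show v.1 * w.1 * s.1 * (v.1 * w.1)⁻¹ = t.1
      rw [show v.1 * w.1 * s.1 * (v.1 * w.1)⁻¹ = v.1 * (w.1 * s.1 * w.1⁻¹) * v.1⁻¹ by group, hw',
        inv_self v.2.1, show v.1 * (v.1 * t.1 * v.1) * v.1 = (v.1 * v.1) * t.1 * (v.1 * v.1) by group,
        mul_self v.2.1, one_mul, mul_one]

theorem card_stab {x y : G ⧸ hT.N} (hxy : x ≠ y) : Nat.card (hT.Stab2 x y) = Nat.card T - 1 := by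
  obtain ⟨s⟩ : Nonempty (FixInv x) := by
    apply (Nat.card_pos_iff.mp ?_).1
    rw [card_fixInv, hT.card_invol]
    have := hT.four_le
    omega
  rw [Nat.card_congr (Equiv.ofBijective _ (hT.stab_bijective hxy s)), card_fixInv, hT.card_invol]

/-- An involution interchanging two points inverts their stabilizer. -/
theorem inverts {x y : G ⧸ hT.N} (hxy : x ≠ y) (w : SwapInv x y) {d : G} (hd : d ∈ hT.Stab2 x y) :
    w.1 * d * w.1⁻¹ = d⁻¹ := by
  let f : SwapInv x y → hT.Stab2 x y := fun v => ⟨w.1 * v.1, by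
    show (w.1 * v.1) • x = x
    rw [mul_smul, v.2.2, hT.swap_back w], by
    show (w.1 * v.1) • y = y
    rw [mul_smul, hT.swap_back v, w.2.2]⟩
  have hinj : Function.Injective f := fun a b h =>
    Subtype.ext (mul_left_cancel (Subtype.ext_iff.mp h))
  have hc : Nat.card (SwapInv x y) = Nat.card (hT.Stab2 x y) := by
    rw [card_swapInv hT.stronglyEmbedded hxy, hT.card_invol, hT.card_stab hxy]
  obtain ⟨v, hv⟩ := (hinj.bijective_of_nat_card_le hc.ge).2 ⟨d, hd⟩
  have hv' : w.1 * v.1 = d := Subtype.ext_iff.mp hv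
  rw [← hv']
  exact conj_mul w.2.1 v.2.1

theorem exists_swap {x y : G ⧸ hT.N} (hxy : x ≠ y) : Nonempty (SwapInv x y) := by
  apply (Nat.card_pos_iff.mp ?_).1
  rw [card_swapInv hT.stronglyEmbedded hxy, hT.card_invol]
  have := hT.four_le
  omega

theorem stab_comm {x y : G ⧸ hT.N} (hxy : x ≠ y) {a b : G} (ha : a ∈ hT.Stab2 x y)
    (hb : b ∈ hT.Stab2 x y) : Commute a b := by
  obtain ⟨w⟩ := hT.exists_swap hxy
  have h := hT.inverts hxy w (mul_mem ha hb)
  rw [show w.1 * (a * b) * w.1⁻¹ = (w.1 * a * w.1⁻¹) * (w.1 * b * w.1⁻¹) by group,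
    hT.inverts hxy w ha, hT.inverts hxy w hb] at h
  show a * b = b * a
  exact inv_injective (by rw [← h, mul_inv_rev])

/-- A nontrivial element fixes at most two points. -/
theorem fix_two {x y a : G ⧸ hT.N} (hxy : x ≠ y) (hxa : x ≠ a) (hya : y ≠ a) {d : G}
    (hd : d ∈ hT.Stab2 x y) (hda : d • a = a) : d = 1 := by
  by_contra hd1
  obtain ⟨w, hwo, hwx⟩ := hT.exists_swap hxy
  obtain ⟨v, hvo, hva⟩ := hT.exists_swap hxa
  have hdx : d • x = x := hd.1
  have hwinv : w * d * w⁻¹ = d⁻¹ := hT.inverts hxy ⟨w, hwo, hwx⟩ hd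
  have hvinv : v * d * v⁻¹ = d⁻¹ := hT.inverts hxa ⟨v, hvo, hva⟩ ⟨hdx, hda⟩
  set C : Subgroup G := Subgroup.centralizer ({d} : Set G) with hC
  have hdodd := hT.odd_of_mem hxy hd
  have hmemC : ∀ c : G, c ∈ C ↔ Commute c d := fun c => Subgroup.mem_centralizer_singleton_iff
  have hfree : ∀ t : G, orderOf t = 2 → ¬ Commute d t := fun t ht h => hd1 (hT.odd_eq_one ht h hdodd)
  have hCodd : ∀ c ∈ C, orderOf c ≠ 2 := fun c hc ho => hfree c ho ((hmemC c).mp hc).symm
  have hCcard : Odd (Nat.card C) := by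
    rw [← Nat.not_even_iff_odd]
    intro h
    obtain ⟨t, htm, ht⟩ := exists_invol h
    exact hCodd t htm ht
  -- the interchanging involution inverts the centralizer of d
  have hnorm : ∀ c ∈ C, w * c * w⁻¹ ∈ C := by
    intro c hc
    have h := (hmemC c).mp hc
    rw [hmemC]
    have : Commute (w * c * w⁻¹) (w * d * w⁻¹) := by
      show _ = _
      calc w * c * w⁻¹ * (w * d * w⁻¹) = w * (c * d) * w⁻¹ := by group
        _ = w * (d * c) * w⁻¹ := by rw [h.eq]
        _ = _ := by group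
    rw [hwinv] at this
    simpa using this.inv_right
  let φ : C →* C :=
    { toFun := fun c => ⟨w * c.1 * w⁻¹, hnorm _ c.2⟩
      map_one' := Subtype.ext (by simp)
      map_mul' := fun a b => Subtype.ext (by simp [mul_assoc]) }
  have hffree : MonoidHom.FixedPointFree φ := by
    intro c hc
    have hc' : w * c.1 * w⁻¹ = c.1 := Subtype.ext_iff.mp hc
    refine Subtype.ext (hT.odd_eq_one hwo (mul_inv_eq_iff_eq_mul.mp hc').symm ?_)
    exact hCcard.of_dvd_nat (Subgroup.orderOf_coe c ▸ orderOf_dvd_natCard _)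
  have hinvol : Function.Involutive φ := fun c => Subtype.ext (by
    show w * (w * c.1 * w⁻¹) * w⁻¹ = c.1
    rw [inv_self hwo, show w * (w * c.1 * w) * w = (w * w) * c.1 * (w * w) by group, mul_self hwo,
      one_mul, mul_one])
  have hCcomm : ∀ a ∈ C, ∀ b ∈ C, Commute a b := fun a ha b hb =>
    congrArg Subtype.val (hffree.commute_all_of_involutive hinvol ⟨a, ha⟩ ⟨b, hb⟩).eq
  set F : Set (G ⧸ hT.N) := {b | d • b = b} with hF
  have hxF : x ∈ F := hdx
  have hdC : d ∈ C := (hmemC d).mpr (Commute.refl d)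
  have hCF : ∀ c ∈ C, ∀ b ∈ F, c • b ∈ F := by
    intro c hc b hb
    show d • c • b = c • b
    rw [← mul_smul, ← ((hmemC c).mp hc).eq, mul_smul, show d • b = b from hb]
  -- the orbit of x under C meets the image of every other fixed point
  have horbit : ∀ b ∈ F, b ≠ x → ∃ c ∈ C, c • x = w • b := by
    intro b hb hbx
    obtain ⟨v', hv'o, hv'b⟩ := hT.exists_swap hbx.symm
    have hinv' : v' * d * v'⁻¹ = d⁻¹ := hT.inverts hbx.symm ⟨v', hv'o, hv'b⟩ ⟨hdx, hb⟩
    refine ⟨w * v', (hmemC _).mpr (mul_inv_eq_iff_eq_mul.mp ?_), by rw [mul_smul, hv'b]⟩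
    rw [show w * v' * d * (w * v')⁻¹ = w * (v' * d * v'⁻¹) * w⁻¹ by group, hinv', ← _root_.conj_inv,
      hwinv, inv_inv]
  -- stabilizers in C coincide
  have hstab : ∀ c ∈ C, c • x = x → ∀ b ∈ F, c • b = b := by
    intro c hc hcx b hb
    have hcy : c • y = y := by
      have hw' : w * c * w⁻¹ = c⁻¹ :=
        congrArg Subtype.val (congrFun (hffree.coe_eq_inv_of_involutive hinvol) ⟨c, hc⟩)
      have hc' : c = w * c⁻¹ * w⁻¹ := by rw [← _root_.conj_inv, hw', inv_inv]
      have hwy : w⁻¹ • y = x := inv_smul_eq_iff.mpr hwx.symm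
      rw [hc', mul_smul, mul_smul, hwy, inv_smul_eq_iff.mpr hcx.symm, hwx]
    by_cases hbx : b = x
    · rw [hbx, hcx]
    by_cases hby : b = y
    · rw [hby, hcy]
    obtain ⟨c', hc', hb'⟩ := horbit b hb hbx
    have e : c • w • b = w • b := by
      rw [← hb', ← mul_smul, (hCcomm c hc c' hc').eq, mul_smul, hcx]
    have hw' : w * c * w⁻¹ = c⁻¹ :=
      congrArg Subtype.val (congrFun (hffree.coe_eq_inv_of_involutive hinvol) ⟨c, hc⟩)
    have hcw : c * w = w * c⁻¹ := by
      rw [eq_comm, ← hw', inv_self hwo, show w * (w * c * w) = (w * w) * (c * w) by group, mul_self hwo,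
        one_mul]
    rw [← mul_smul, hcw, mul_smul] at e
    have := (smul_left_cancel w e).symm
    rw [eq_inv_smul_iff] at this
    exact this
  -- orbits of C on F all have the same size, and one is almost everything
  set CS : Subgroup C := (MulAction.stabilizer C x) with hCS
  have hst : ∀ b ∈ F, MulAction.stabilizer C b = CS := by
    intro b hb
    ext c
    rw [MulAction.mem_stabilizer_iff, hCS, MulAction.mem_stabilizer_iff]
    constructor
    · intro hcb
      by_cases hbx : b = x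
      · rw [← hbx]; exact hcb
      obtain ⟨c', hc', hb'⟩ := horbit b hb hbx
      have hcwb : c • w • b = w • b := by
        have hw' : w * c.1 * w⁻¹ = c.1⁻¹ :=
          congrArg Subtype.val (congrFun (hffree.coe_eq_inv_of_involutive hinvol) c)
        have hcw : c.1 * w = w * c.1⁻¹ := by
          rw [eq_comm, ← hw', inv_self hwo, show w * (w * c.1 * w) = (w * w) * (c.1 * w) by group,
            mul_self hwo, one_mul]
        show c.1 • w • b = w • b
        rw [← mul_smul, hcw, mul_smul, inv_smul_eq_iff.mpr (show b = c.1 • b from hcb.symm)]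
      have hcwb' : c.1 • w • b = w • b := hcwb
      rw [← hb', ← mul_smul, (hCcomm c.1 c.2 c' hc').eq, mul_smul] at hcwb'
      exact smul_left_cancel c' hcwb'
    · intro hcx
      exact hstab c.1 c.2 hcx b hb
  have horbcard : ∀ b ∈ F, Nat.card (MulAction.orbit C b) = Nat.card (MulAction.orbit C x) := by
    intro b hb
    rw [Nat.card_congr (MulAction.orbitEquivQuotientStabilizer C b),
      Nat.card_congr (MulAction.orbitEquivQuotientStabilizer C x), hst b hb, hst x hxF]
  have hsub : ∀ b ∈ F, MulAction.orbit C b ⊆ F := by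
    rintro b hb _ ⟨c, rfl⟩
    exact hCF c.1 c.2 b hb
  have hFtrans : ∀ b ∈ F, b ∈ MulAction.orbit C x := by
    by_contra hno
    push Not at hno
    obtain ⟨b, hb, hbo⟩ := hno
    have hdisj : Disjoint (MulAction.orbit C b) (MulAction.orbit C x) := by
      rw [Set.disjoint_left]
      intro p hp hq
      apply hbo
      rw [← MulAction.orbit_eq_iff.mpr hq, MulAction.orbit_eq_iff.mpr hp]
      exact MulAction.mem_orbit_self b
    have h1 : Nat.card (MulAction.orbit C b) + Nat.card (MulAction.orbit C x) ≤ Nat.card F := by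
      rw [Nat.card_coe_set_eq, Nat.card_coe_set_eq, Nat.card_coe_set_eq,
        ← Set.ncard_union_eq hdisj (Set.toFinite _) (Set.toFinite _)]
      exact Set.ncard_le_ncard (Set.union_subset (hsub b hb) (hsub x hxF)) (Set.toFinite _)
    have h2 : Nat.card F ≤ Nat.card (MulAction.orbit C x) + 1 := by
      rw [Nat.card_coe_set_eq, Nat.card_coe_set_eq]
      have : F \ {x} ⊆ (fun b => w • b) ⁻¹' MulAction.orbit C x := by
        rintro b ⟨hb, hbx⟩
        obtain ⟨c, hc, hcb⟩ := horbit b hb hbx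
        exact ⟨⟨c, hc⟩, hcb⟩
      have h3 := (Set.ncard_le_ncard this (Set.toFinite _)).trans
        (Set.ncard_preimage_of_injective_subset_range (MulAction.injective w)
          (fun p _ => (MulAction.surjective w p))).le
      have h4 := Set.ncard_sdiff_singleton_add_one hxF (Set.toFinite F)
      omega
    have h5 : 2 ≤ Nat.card (MulAction.orbit C x) := by
      obtain ⟨c, hc, hca⟩ := horbit a hda hxa.symm
      rw [Nat.card_coe_set_eq]
      refine (Set.one_lt_ncard (Set.toFinite _)).mpr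
        ⟨x, MulAction.mem_orbit_self x, w • a, ⟨⟨c, hc⟩, hca⟩, fun h => ?_⟩
      exact hya.symm (by rw [show y = w • x from hwx.symm, h, ← mul_smul, mul_self hwo, one_smul])
    rw [horbcard b hb] at h1
    omega
  have hFodd : Odd (Nat.card F) := by
    have : F = MulAction.orbit C x := Set.Subset.antisymm hFtrans (hsub x hxF)
    rw [this, Nat.card_congr (MulAction.orbitEquivQuotientStabilizer C x)]
    exact hCcard.of_dvd_nat (Subgroup.index_dvd_card _)
  -- the involution fixes a point of F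
  classical
  have := Fintype.ofFinite F
  have hwF : ∀ b : F, w • b.1 ∈ F := by
    rintro ⟨b, hb⟩
    show d • w • b = w • b
    have hdw : d * w = w * d⁻¹ := by
      rw [eq_comm, ← hwinv, inv_self hwo, show w * (w * d * w) = (w * w) * (d * w) by group,
        mul_self hwo, one_mul]
    rw [← mul_smul, hdw, mul_smul, inv_smul_eq_iff.mpr (show b = d • b from hb.symm)]
  let σ : Equiv.Perm F :=
    ⟨fun b => ⟨w • b.1, hwF b⟩, fun b => ⟨w • b.1, hwF b⟩,
      fun b => Subtype.ext (by show w • w • b.1 = b.1; rw [← mul_smul, mul_self hwo, one_smul]),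
      fun b => Subtype.ext (by show w • w • b.1 = b.1; rw [← mul_smul, mul_self hwo, one_smul])⟩
  obtain ⟨⟨z, hz⟩, hσz⟩ := Equiv.Perm.exists_fixed_point_of_prime (p := 2) (n := 1) (σ := σ)
    (by rw [← Nat.card_eq_fintype_card]; exact fun h => Nat.not_even_iff_odd.mpr hFodd (even_iff_two_dvd.mpr h))
    (by
      refine Equiv.ext fun b => Subtype.ext ?_
      rw [pow_one, pow_two]
      show w • w • b.1 = b.1
      rw [← mul_smul, mul_self hwo, one_smul])
  have hwz : w • z = z := congrArg Subtype.val hσz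
  have hwd : orderOf (d * w * d⁻¹) = 2 := by rw [order_conj, hwo]
  have hwdz : (d * w * d⁻¹) • z = z := by
    have hz' : d • z = z := hz
    rw [mul_smul, mul_smul, inv_smul_eq_iff.mpr hz'.symm, hwz, hz']
  have hcomm := hT.commute_fix hwd hwo hwdz hwz
  have hsq : (d * w * d⁻¹ * w) * (d * w * d⁻¹ * w) = 1 := by
    rw [hcomm.symm.mul_mul_mul_comm, mul_self hwd, mul_self hwo, one_mul]
  have he : d * w * d⁻¹ * w = d ^ 2 := by
    rw [show d * w * d⁻¹ * w = d * (w * d⁻¹ * w) by group]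
    nth_rewrite 2 [← inv_self hwo]
    rw [← _root_.conj_inv, hwinv, inv_inv, pow_two]
  rw [he, ← pow_two] at hsq
  have : d ^ 2 = 1 := by
    refine eq_one_of_sq_of_odd (hdodd.of_dvd_nat (orderOf_pow_dvd _)) hsq
  exact hd1 (eq_one_of_sq_of_odd hdodd this)

theorem stab2_ne_bot {x y : G ⧸ hT.N} (hxy : x ≠ y) : ∃ d ∈ hT.Stab2 x y, d ≠ 1 := by
  have h : 1 < Nat.card (hT.Stab2 x y) := by
    rw [hT.card_stab hxy]
    have := hT.four_le
    omega
  haveI := Finite.one_lt_card_iff_nontrivial.mp h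
  obtain ⟨d, hd⟩ := exists_ne (1 : hT.Stab2 x y)
  exact ⟨d, d.2, fun e => hd (Subtype.ext e)⟩

/-- The points fixed by a two-point stabilizer. -/
theorem fixed_eq {x y a : G ⧸ hT.N} (hxy : x ≠ y) (h : ∀ d ∈ hT.Stab2 x y, d • a = a) :
    a = x ∨ a = y := by
  by_contra hne
  push Not at hne
  obtain ⟨d, hd, hd1⟩ := hT.stab2_ne_bot hxy
  exact hd1 (hT.fix_two hxy hne.1.symm hne.2.symm hd (h d hd))

/-- The coset of the identity. -/
abbrev base (hT : ElemCase T) : G ⧸ hT.N := ((1 : G) : G ⧸ hT.N)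

theorem smul_base {h : G} : h • hT.base = hT.base ↔ h ∈ hT.N := by
  rw [MulAction.Quotient.smul_mk, QuotientGroup.eq, smul_eq_mul, mul_one, mul_one, inv_mem_iff]

theorem smul_T {t : G} (ht : t ∈ (T : Subgroup G)) : t • hT.base = hT.base :=
  hT.smul_base.mpr (Subgroup.le_normalizer ht)

theorem T_free {a : G ⧸ hT.N} (ha : a ≠ hT.base) {t : G} (ht : t ∈ (T : Subgroup G))
    (hta : t • a = a) : t = 1 := by
  by_contra h1
  exact ha (se_fix_unique hT.stronglyEmbedded (hT.order_T ht h1) hta (hT.smul_T ht))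

/-- The point stabilizer is the product of `T` and a two-point stabilizer. -/
theorem factor {y : G ⧸ hT.N} (hy : y ≠ hT.base) {h : G} (hh : h ∈ hT.N) :
    ∃ d ∈ hT.Stab2 hT.base y, d⁻¹ * h ∈ (T : Subgroup G) := by
  obtain ⟨z, hzT, hzo, -⟩ := hT.exists_central
  obtain ⟨d, hd⟩ := (hT.stab_bijective hy.symm ⟨z, hzo, hT.smul_T hzT⟩).2
    ⟨h * z * h⁻¹, by rw [order_conj, hzo],
      hT.smul_base.mpr (mul_mem (mul_mem hh (Subgroup.le_normalizer hzT)) (inv_mem hh))⟩
  have hd' : (d : G) * z * (d : G)⁻¹ = h * z * h⁻¹ := Subtype.ext_iff.mp hd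
  refine ⟨d, d.2, ?_⟩
  rw [← hT.centralizer_eq hzT (ne_one hzo), Subgroup.mem_centralizer_singleton_iff]
  calc (d : G)⁻¹ * h * z = (d : G)⁻¹ * (h * z * h⁻¹) * h := by group
    _ = (d : G)⁻¹ * ((d : G) * z * (d : G)⁻¹) * h := by rw [hd']
    _ = z * ((d : G)⁻¹ * h) := by group

theorem stab2_le_N {y : G ⧸ hT.N} {d : G} (hd : d ∈ hT.Stab2 hT.base y) : d ∈ hT.N :=
  hT.smul_base.mp hd.1

theorem card_N {y : G ⧸ hT.N} (hy : y ≠ hT.base) :
    Nat.card hT.N = Nat.card T * (Nat.card T - 1) := by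
  rw [← hT.card_stab hy.symm, mul_comm, ← Nat.card_prod]
  refine (Nat.card_congr (Equiv.ofBijective (fun p : hT.Stab2 hT.base y × (T : Subgroup G) =>
    (⟨p.1.1 * p.2.1, mul_mem (hT.stab2_le_N p.1.2) (Subgroup.le_normalizer p.2.2)⟩ : hT.N)) ⟨?_, ?_⟩)).symm
  · rintro ⟨a, s⟩ ⟨b, t⟩ h
    have h' : (a : G) * s = (b : G) * t := Subtype.ext_iff.mp h
    have hm : (b : G)⁻¹ * a = (t : G) * (s : G)⁻¹ := by
      rw [eq_mul_inv_iff_mul_eq, mul_assoc, h', inv_mul_cancel_left]
    have hmem : (b : G)⁻¹ * a ∈ hT.Stab2 hT.base y := mul_mem (inv_mem b.2) a.2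
    have hone : (t : G) * (s : G)⁻¹ = 1 :=
      hT.T_free hy (mul_mem t.2 (inv_mem s.2)) (by rw [← hm]; exact hmem.2)
    rw [hone] at hm
    have hab : (b : G) = a := inv_mul_eq_one.mp hm
    exact Prod.ext (Subtype.ext hab.symm) (Subtype.ext (mul_inv_eq_one.mp hone).symm)
  · rintro ⟨h, hh⟩
    obtain ⟨d, hd, hdT⟩ := hT.factor hy hh
    exact ⟨(⟨d, hd⟩, ⟨_, hdT⟩), Subtype.ext (mul_inv_cancel_left d h)⟩

/-- `T` is transitive on the points other than its own. -/
theorem T_trans {y y' : G ⧸ hT.N} (hy : y ≠ hT.base) (hy' : y' ≠ hT.base) :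
    ∃ t ∈ (T : Subgroup G), t • y = y' := by
  by_contra hno
  push Not at hno
  set D := hT.Stab2 hT.base y' with hD
  set O : Set (G ⧸ hT.N) := {a | ∃ t ∈ (T : Subgroup G), t • y = a} with hO
  have hDO : ∀ d ∈ D, ∀ a ∈ O, d • a ∈ O := by
    rintro d hd _ ⟨t, ht, rfl⟩
    obtain ⟨e, he, heT⟩ := hT.factor hy (mul_mem (hT.stab2_le_N hd) (Subgroup.le_normalizer ht))
    refine ⟨e * (e⁻¹ * (d * t)) * e⁻¹, (Subgroup.mem_normalizer_iff.mp (hT.stab2_le_N he) _).mp heT, ?_⟩
    rw [mul_smul, mul_smul, inv_smul_eq_iff.mpr (he.2 : e • y = y).symm, ← mul_smul,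
      mul_inv_cancel_left, mul_smul]
  have hcardO : Nat.card O = Nat.card T := by
    refine (Nat.card_congr (Equiv.ofBijective
      (fun t : (T : Subgroup G) => (⟨t.1 • y, t.1, t.2, rfl⟩ : O)) ⟨?_, ?_⟩)).symm
    · intro a b h
      have h' : (a : G) • y = (b : G) • y := Subtype.ext_iff.mp h
      have h2 : ((b : G)⁻¹ * a) • y = y := by rw [mul_smul, h', inv_smul_smul]
      exact Subtype.ext (inv_mul_eq_one.mp (hT.T_free hy (mul_mem (inv_mem b.2) a.2) h2)).symm
    · rintro ⟨_, t, ht, rfl⟩; exact ⟨⟨t, ht⟩, rfl⟩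
  have horb : ∀ a ∈ O, Nat.card (MulAction.orbit D a) = Nat.card T - 1 := by
    intro a ha
    rw [Nat.card_congr (MulAction.orbitEquivQuotientStabilizer D a), ← hT.card_stab hy'.symm]
    have : MulAction.stabilizer D a = ⊥ := by
      rw [Subgroup.eq_bot_iff_forall]
      intro d hd
      refine Subtype.ext (hT.fix_two (a := a) hy'.symm ?_ ?_ d.2 hd)
      · rintro rfl
        obtain ⟨t, ht, hta⟩ := ha
        exact hy (smul_left_cancel t (hta.trans (hT.smul_T ht).symm))
      · rintro rfl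
        obtain ⟨t, ht, hta⟩ := ha
        exact hno t ht hta
    rw [this, ← Subgroup.index, Subgroup.index_bot]
  have hsub : ∀ a ∈ O, MulAction.orbit D a ⊆ O := by
    rintro a ha _ ⟨d, rfl⟩
    exact hDO d.1 d.2 a ha
  have hyO : y ∈ O := ⟨1, one_mem _, one_smul _ _⟩
  have h4 := hT.four_le
  obtain ⟨b, hb, hbo⟩ : ∃ b ∈ O, b ∉ MulAction.orbit D y := by
    by_contra h
    push Not at h
    have hle : O.ncard ≤ (MulAction.orbit D y).ncard := Set.ncard_le_ncard h (Set.toFinite _)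
    rw [← Nat.card_coe_set_eq, ← Nat.card_coe_set_eq, hcardO, horb y hyO] at hle
    omega
  have hdisj : Disjoint (MulAction.orbit D b) (MulAction.orbit D y) := by
    rw [Set.disjoint_left]
    intro p hp hq
    apply hbo
    rw [← MulAction.orbit_eq_iff.mpr hq, MulAction.orbit_eq_iff.mpr hp]
    exact MulAction.mem_orbit_self b
  have hle : (MulAction.orbit D b ∪ MulAction.orbit D y).ncard ≤ O.ncard :=
    Set.ncard_le_ncard (Set.union_subset (hsub b hb) (hsub y hyO)) (Set.toFinite _)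
  rw [Set.ncard_union_eq hdisj (Set.toFinite _) (Set.toFinite _), ← Nat.card_coe_set_eq,
    ← Nat.card_coe_set_eq, ← Nat.card_coe_set_eq, hcardO, horb y hyO, horb b hb] at hle
  omega

theorem exists_smul_base (x : G ⧸ hT.N) : ∃ g : G, g • hT.base = x := by
  induction x using QuotientGroup.induction_on with
  | _ g => exact ⟨g, by rw [MulAction.Quotient.smul_mk, smul_eq_mul, mul_one]⟩

theorem exists_ne_base : ∃ y : G ⧸ hT.N, y ≠ hT.base := by
  by_contra h
  push Not at h
  apply hT.stronglyEmbedded.1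
  rw [eq_top_iff]
  intro g _
  have := h (g : G ⧸ hT.N)
  rw [QuotientGroup.eq, mul_one] at this
  exact inv_mem_iff.mp this

/-- Triple transitivity. -/
theorem three_trans {x₁ x₂ x₃ y₁ y₂ y₃ : G ⧸ hT.N} (h12 : x₁ ≠ x₂) (h13 : x₁ ≠ x₃) (h23 : x₂ ≠ x₃)
    (k12 : y₁ ≠ y₂) (k13 : y₁ ≠ y₃) (k23 : y₂ ≠ y₃) :
    ∃ g : G, g • x₁ = y₁ ∧ g • x₂ = y₂ ∧ g • x₃ = y₃ := by
  obtain ⟨p₀, hp0⟩ := hT.exists_ne_base
  -- two-point stabilizers are transitive on the other points
  set D := hT.Stab2 hT.base p₀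
  obtain ⟨q₀, hq0, hqp⟩ : ∃ q : G ⧸ hT.N, q ≠ hT.base ∧ q ≠ p₀ := by
    obtain ⟨t, htT, hto, -⟩ := hT.exists_central
    refine ⟨t • p₀, fun h => hp0 (smul_left_cancel t (h.trans (hT.smul_T htT).symm)), fun h => ?_⟩
    exact ne_one hto (hT.T_free hp0 htT h)
  have hD : ∀ c, c ≠ hT.base → c ≠ p₀ → ∃ d ∈ D, d • q₀ = c := by
    intro c hc hcp
    choose τ hτ hτc using fun a : {a : G ⧸ hT.N // a ≠ hT.base ∧ a ≠ p₀} => hT.T_trans hp0 a.2.1
    have hcard : Nat.card {a : G ⧸ hT.N // a ≠ hT.base ∧ a ≠ p₀} ≤ Nat.card D := by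
      rw [hT.card_stab hp0.symm]
      refine le_trans (Nat.card_le_card_of_injective
        (fun a => (⟨⟨τ a, hτ a⟩, fun h => a.2.2 ?_⟩ : {t : (T : Subgroup G) // t ≠ 1})) ?_) ?_
      · rw [← hτc a, show τ a = 1 from congrArg Subtype.val h, one_smul]
      · intro a b h
        have h' : τ a = τ b := congrArg Subtype.val (Subtype.ext_iff.mp h)
        exact Subtype.ext (by rw [← hτc a, h', hτc b])
      · classical
        have := Fintype.ofFinite (T : Subgroup G)
        show _ ≤ Nat.card (T : Subgroup G) - 1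
        rw [Nat.card_eq_fintype_card, Fintype.card_subtype_compl, Fintype.card_subtype_eq,
          ← Nat.card_eq_fintype_card]
    let f : D → {a : G ⧸ hT.N // a ≠ hT.base ∧ a ≠ p₀} := fun d => ⟨d.1 • q₀,
      fun h => hq0 (smul_left_cancel d.1 (h.trans d.2.1.symm)),
      fun h => hqp (smul_left_cancel d.1 (h.trans d.2.2.symm))⟩
    have hf : Function.Injective f := by
      intro a b h
      have h' : a.1 • q₀ = b.1 • q₀ := Subtype.ext_iff.mp h
      have h2 : (b.1⁻¹ * a.1) • q₀ = q₀ := by rw [mul_smul, h', inv_smul_smul]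
      exact Subtype.ext (inv_mul_eq_one.mp (hT.fix_two hp0.symm hq0.symm hqp.symm
        (mul_mem (inv_mem b.2) a.2) h2)).symm
    obtain ⟨d, hd⟩ := (hf.bijective_of_nat_card_le hcard).2 ⟨c, hc, hcp⟩
    exact ⟨d, d.2, Subtype.ext_iff.mp hd⟩
  have key : ∀ a b c : G ⧸ hT.N, a ≠ b → a ≠ c → b ≠ c →
      ∃ g : G, g • a = hT.base ∧ g • b = p₀ ∧ g • c = q₀ := by
    intro a b c hab hac hbc
    obtain ⟨g₁, hg₁⟩ := hT.exists_smul_base a
    obtain ⟨t, ht, htb⟩ := hT.T_trans (y := g₁⁻¹ • b) (y' := p₀)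
      (by intro e; exact hab (by rw [← hg₁, ← e, smul_inv_smul])) hp0
    have ha : (t * g₁⁻¹) • a = hT.base := by
      rw [mul_smul, inv_smul_eq_iff.mpr hg₁.symm, hT.smul_T ht]
    have hb : (t * g₁⁻¹) • b = p₀ := by rw [mul_smul, htb]
    obtain ⟨d, hd, hdc⟩ := hD ((t * g₁⁻¹) • c)
      (fun e => hac (smul_left_cancel _ (ha.trans e.symm)))
      (fun e => hbc (smul_left_cancel _ (hb.trans e.symm)))
    refine ⟨d⁻¹ * (t * g₁⁻¹), ?_, ?_, ?_⟩
    · rw [mul_smul, ha, inv_smul_eq_iff.mpr (hd.1 : d • hT.base = hT.base).symm]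
    · rw [mul_smul, hb, inv_smul_eq_iff.mpr (hd.2 : d • p₀ = p₀).symm]
    · rw [mul_smul, ← hdc, inv_smul_smul]
  obtain ⟨g, g1, g2, g3⟩ := key x₁ x₂ x₃ h12 h13 h23
  obtain ⟨k, k1, k2, k3⟩ := key y₁ y₂ y₃ k12 k13 k23
  exact ⟨k⁻¹ * g, by rw [mul_smul, g1, ← k1, inv_smul_smul], by rw [mul_smul, g2, ← k2, inv_smul_smul],
    by rw [mul_smul, g3, ← k3, inv_smul_smul]⟩

end ElemCase

end Cfsg.Agent.Invol
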