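import Mathlib.GroupTheory.SpecificGroups.Dihedral
import Mathlib.GroupTheory.PGroup
import Mathlib.GroupTheory.OrderOfElement
import Mathlib.Data.Nat.ModEq
import Mathlib.Tactic.Linarith
import Mathlib.Tactic.Ring

/-!
Involutions: elements of order two, the dihedral group generated by two of them.
-/

namespace Cfsg.Agent.Invol

variable {G : Type*} [Group G]

theorem mul_self {t : G} (ht : orderOf t = 2) : t * t = 1 := by
  have h := pow_orderOf_eq_one t
  rw [ht, pow_two] at h; exact h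

theorem inv_self {t : G} (ht : orderOf t = 2) : t⁻¹ = t :=
  inv_eq_of_mul_eq_one_right (mul_self ht)

theorem ne_one {t : G} (ht : orderOf t = 2) : t ≠ 1 := by
  rintro rfl; simp at ht

theorem order_two_of_sq {t : G} (h : t * t = 1) (h1 : t ≠ 1) : orderOf t = 2 :=
  orderOf_eq_prime (by rw [pow_two, h]) h1

theorem order_conj (g t : G) : orderOf (g * t * g⁻¹) = orderOf t :=
  (MulAut.conj g).orderOf_eq t

/-- An involution `x` inverts the product `x * y` with another involution `y`. -/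
theorem conj_mul {x y : G} (hx : orderOf x = 2) (hy : orderOf y = 2) :
    x * (x * y) * x⁻¹ = (x * y)⁻¹ := by
  rw [mul_inv_rev, inv_self hx, inv_self hy, ← mul_assoc, mul_self hx, one_mul]

theorem conj_zpow {x a : G} (h : x * a * x⁻¹ = a⁻¹) (k : ℤ) :
    x * a ^ k * x⁻¹ = a ^ (-k) := by
  rw [← _root_.conj_zpow, h, inv_zpow']

theorem conj_pow {x a : G} (h : x * a * x⁻¹ = a⁻¹) (k : ℕ) :
    x * a ^ k * x⁻¹ = (a ^ k)⁻¹ := by
  rw [← _root_.conj_pow, h, inv_pow]

/-- If `x` inverts `a` then `x * a ^ k = a ^ (-k) * x`. -/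
theorem swap_zpow {x a : G} (h : x * a * x⁻¹ = a⁻¹) (k : ℤ) :
    x * a ^ k = a ^ (-k) * x := by
  rw [← conj_zpow h k, inv_mul_cancel_right]

theorem inverted_mul_invol {x a : G} (hx : orderOf x = 2) (h : x * a * x⁻¹ = a⁻¹) (k : ℤ) :
    a ^ k * x * (a ^ k * x) = 1 := by
  rw [mul_assoc (a ^ k), ← mul_assoc x, swap_zpow h, mul_assoc, mul_self hx, mul_one,
    ← zpow_add, add_neg_cancel, zpow_zero]

theorem zpow_mul_conj {x a : G} (h : x * a * x⁻¹ = a⁻¹) (k : ℤ) :
    a ^ k * x * (a ^ k)⁻¹ = a ^ (2 * k) * x := by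
  rw [← zpow_neg, mul_assoc, swap_zpow h, neg_neg, ← mul_assoc, ← zpow_add]; ring_nf

/-- Elements of the group generated by two involutions. -/
theorem mem_closure_pair {x y d : G} (hx : orderOf x = 2) (hy : orderOf y = 2)
    (hd : d ∈ Subgroup.closure ({x, y} : Set G)) :
    ∃ k : ℤ, d = (x * y) ^ k ∨ d = (x * y) ^ k * x := by
  have h := conj_mul hx hy
  induction hd using Subgroup.closure_induction with
  | mem z hz =>
    rcases hz with rfl | rfl
    · exact ⟨0, Or.inr (by simp)⟩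
    · refine ⟨-1, Or.inr ?_⟩
      rw [zpow_neg_one, mul_inv_rev, mul_assoc, inv_mul_cancel, mul_one, inv_self hy]
  | one => exact ⟨0, Or.inl (by simp)⟩
  | mul a b _ _ ha hb =>
    obtain ⟨i, ha⟩ := ha
    obtain ⟨j, hb⟩ := hb
    rcases ha with rfl | rfl <;> rcases hb with rfl | rfl
    · exact ⟨i + j, Or.inl (zpow_add _ _ _).symm⟩
    · exact ⟨i + j, Or.inr (by rw [zpow_add, mul_assoc])⟩
    · refine ⟨i - j, Or.inr ?_⟩
      rw [mul_assoc, swap_zpow h, ← mul_assoc, ← zpow_add, ← sub_eq_add_neg]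
    · refine ⟨i - j, Or.inl ?_⟩
      rw [mul_assoc, ← mul_assoc x, swap_zpow h, mul_assoc, mul_self hx, mul_one, ← zpow_add,
        ← sub_eq_add_neg]
  | inv a _ ha =>
    obtain ⟨i, ha⟩ := ha
    rcases ha with rfl | rfl
    · exact ⟨-i, Or.inl (zpow_neg _ _).symm⟩
    · refine ⟨i, Or.inr ?_⟩
      exact inv_eq_of_mul_eq_one_right (inverted_mul_invol hx h i)

theorem zpow_mul_mem_closure_pair (x y : G) (k : ℤ) :
    (x * y) ^ k ∈ Subgroup.closure ({x, y} : Set G) :=
  zpow_mem (mul_mem (Subgroup.subset_closure (by simp)) (Subgroup.subset_closure (by simp))) k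

theorem conj_x_eq {x y d : G} (hx : orderOf x = 2) (hy : orderOf y = 2)
    (hd : d ∈ Subgroup.closure ({x, y} : Set G)) :
    ∃ k : ℤ, d * x * d⁻¹ = (x * y) ^ (2 * k) * x := by
  obtain ⟨k, hk⟩ := mem_closure_pair hx hy hd
  refine ⟨k, ?_⟩
  rw [← zpow_mul_conj (conj_mul hx hy) k]
  rcases hk with rfl | rfl
  · rfl
  · group

theorem y_eq {x y : G} (hx : orderOf x = 2) (hy : orderOf y = 2) :
    y = (x * y) ^ (-1 : ℤ) * x := by
  rw [zpow_neg_one, mul_inv_rev, mul_assoc, inv_mul_cancel, mul_one, inv_self hy]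

/-- Two involutions with product of odd order are conjugate in the subgroup they generate. -/
theorem conj_of_odd {x y : G} (hx : orderOf x = 2) (hy : orderOf y = 2)
    (hodd : Odd (orderOf (x * y))) :
    ∃ d ∈ Subgroup.closure ({x, y} : Set G), d * x * d⁻¹ = y := by
  obtain ⟨m, hm⟩ := hodd
  refine ⟨(x * y) ^ (m : ℤ), zpow_mul_mem_closure_pair x y m, ?_⟩
  rw [zpow_mul_conj (conj_mul hx hy)]
  conv_rhs => rw [y_eq hx hy]
  congr 1
  have h1 : (x * y) ^ (2 * (m : ℤ) + 1) = 1 := by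
    have := pow_orderOf_eq_one (x * y)
    rw [hm, ← zpow_natCast] at this
    push_cast at this; exact this
  rw [zpow_add, zpow_one] at h1
  rw [zpow_neg_one]
  exact mul_eq_one_iff_eq_inv.mp h1

/-- Two involutions with product of even order are not conjugate in the subgroup they generate. -/
theorem not_conj_of_even {x y : G} (hx : orderOf x = 2) (hy : orderOf y = 2)
    (heven : Even (orderOf (x * y))) {d : G} (hd : d ∈ Subgroup.closure ({x, y} : Set G)) :
    d * x * d⁻¹ ≠ y := by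
  intro he
  obtain ⟨k, hk⟩ := conj_x_eq hx hy hd
  rw [he] at hk
  have h2 : (x * y) ^ (2 * k + 1) = 1 := by
    rw [zpow_add, zpow_one]
    have := y_eq hx hy
    conv_lhs at hk => rw [this]
    have := mul_right_cancel hk
    rw [← this]; group
  rw [← orderOf_dvd_iff_zpow_eq_one] at h2
  obtain ⟨m, hm⟩ := heven
  obtain ⟨c, hc⟩ := h2
  rw [hm] at hc
  push_cast at hc
  have : (2:ℤ) ∣ 2 * k + 1 := ⟨(m:ℤ) * c, by rw [hc]; ring⟩
  omega

section Even

variable {x y : G} (hx : orderOf x = 2) (hy : orderOf y = 2)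
include hx hy

theorem half_order (heven : Even (orderOf (x * y))) (h0 : 0 < orderOf (x * y)) :
    orderOf ((x * y) ^ (orderOf (x * y) / 2)) = 2 := by
  obtain ⟨m, hm⟩ := heven
  refine order_two_of_sq ?_ ?_
  · rw [← pow_add]
    have : orderOf (x * y) / 2 + orderOf (x * y) / 2 = orderOf (x * y) := by omega
    rw [this, pow_orderOf_eq_one]
  · exact pow_ne_one_of_lt_orderOf (by omega) (by omega)

theorem half_commute (heven : Even (orderOf (x * y))) :
    Commute ((x * y) ^ (orderOf (x * y) / 2)) x ∧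
      Commute ((x * y) ^ (orderOf (x * y) / 2)) y := by
  obtain ⟨m, hm⟩ := heven
  have hc : Commute ((x * y) ^ (orderOf (x * y) / 2)) x := by
    refine Commute.symm ?_
    have h := conj_pow (conj_mul hx hy) (orderOf (x * y) / 2)
    have hz : ((x * y) ^ (orderOf (x * y) / 2))⁻¹ = (x * y) ^ (orderOf (x * y) / 2) := by
      refine inv_eq_of_mul_eq_one_right ?_
      rw [← pow_add, show orderOf (x * y) / 2 + orderOf (x * y) / 2 = orderOf (x * y) by omega,
        pow_orderOf_eq_one]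
    rw [hz] at h
    exact mul_inv_eq_iff_eq_mul.mp h
  refine ⟨hc, ?_⟩
  have hy' : y = x * (x * y) := by rw [← mul_assoc, mul_self hx, one_mul]
  conv_rhs => rw [hy']
  exact hc.mul_right (Commute.pow_self _ _)

/-- If `4` divides the order of `x * y` then `x` is conjugate to `x * z`. -/
theorem conj_mul_half_of_four_dvd (h : 4 ∣ orderOf (x * y)) :
    ∃ d ∈ Subgroup.closure ({x, y} : Set G),
      d * x * d⁻¹ = x * (x * y) ^ (orderOf (x * y) / 2) := by
  obtain ⟨m, hm⟩ := h
  refine ⟨(x * y) ^ (m : ℤ), zpow_mul_mem_closure_pair x y m, ?_⟩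
  rw [zpow_mul_conj (conj_mul hx hy)]
  have heven : Even (orderOf (x * y)) := ⟨2 * m, by omega⟩
  rw [← (half_commute hx hy heven).1.eq, ← zpow_natCast (x * y) (orderOf (x * y) / 2)]
  congr 2
  omega

theorem four_dvd_of_conj_mul_half (heven : Even (orderOf (x * y))) {d : G}
    (hd : d ∈ Subgroup.closure ({x, y} : Set G))
    (he : d * x * d⁻¹ = x * (x * y) ^ (orderOf (x * y) / 2)) : 4 ∣ orderOf (x * y) := by
  obtain ⟨k, hk⟩ := conj_x_eq hx hy hd
  rw [he, ← (half_commute hx hy heven).1.eq] at hk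
  have h2 := mul_right_cancel hk
  rw [← zpow_natCast, ← orderOf_dvd_sub_iff_zpow_eq_zpow] at h2
  obtain ⟨c, hc⟩ := h2
  obtain ⟨m, hm⟩ := heven
  rcases Nat.even_or_odd' m with ⟨l, hl | hl⟩
  · exact ⟨l, by omega⟩
  · exfalso
    have e1 : orderOf (x * y) / 2 = 2 * l + 1 := by omega
    rw [e1, hm, hl] at hc
    push_cast at hc
    have : (2:ℤ) ∣ 1 := ⟨(2 * (l:ℤ) + 1) * c + k - (l:ℤ), by linarith⟩
    omega

/-- If the order of `x * y` is twice an odd number then `y` is conjugate to `x * z`. -/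
theorem conj_y_mul_half (heven : Even (orderOf (x * y))) (h : ¬ 4 ∣ orderOf (x * y)) :
    ∃ d ∈ Subgroup.closure ({x, y} : Set G),
      d * y * d⁻¹ = x * (x * y) ^ (orderOf (x * y) / 2) := by
  obtain ⟨m, hm⟩ := heven
  rcases Nat.even_or_odd' m with ⟨l, hl | hl⟩
  · exact absurd ⟨l, by omega⟩ h
  · refine ⟨(x * y) ^ ((l : ℤ) + 1), zpow_mul_mem_closure_pair x y _, ?_⟩
    rw [← (half_commute hx hy ⟨m, hm⟩).1.eq, show orderOf (x * y) / 2 = 2 * l + 1 by omega]
    have hyy : y * (x * y) * y⁻¹ = (x * y)⁻¹ := by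
      rw [mul_inv_rev, inv_self hx, inv_self hy, mul_assoc, mul_assoc x, mul_self hy, mul_one]
    rw [zpow_mul_conj hyy]
    nth_rewrite 2 [y_eq hx hy]
    rw [← mul_assoc, ← zpow_add, ← zpow_natCast]
    congr 2
    push_cast; ring

/-- `x * z` is an involution commuting with `x` and different from it. -/
theorem mul_half_spec (heven : Even (orderOf (x * y))) (h0 : 0 < orderOf (x * y)) :
    Commute x (x * (x * y) ^ (orderOf (x * y) / 2)) ∧
      x * (x * y) ^ (orderOf (x * y) / 2) ≠ x := by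
  refine ⟨(Commute.refl x).mul_right (half_commute hx hy heven).1.symm, ?_⟩
  intro h
  exact ne_one (half_order hx hy heven h0) (mul_left_cancel (a := x) (by rw [mul_one]; exact h))

end Even

/-- An element of odd order has a square root among its powers. -/
theorem exists_sqrt {a : G} (h : Odd (orderOf a)) : ∃ k : ℕ, (a ^ k) ^ 2 = a := by
  obtain ⟨m, hm⟩ := h
  refine ⟨m + 1, ?_⟩
  rw [← pow_mul, show (m + 1) * 2 = orderOf a + 1 by omega, pow_succ, pow_orderOf_eq_one, one_mul]

/-- An element of odd order commuting up to inversion with itself is trivial. -/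
theorem eq_one_of_sq_of_odd {a : G} (h : Odd (orderOf a)) (h2 : a ^ 2 = 1) : a = 1 := by
  rw [← orderOf_dvd_iff_pow_eq_one] at h2
  rcases (Nat.dvd_prime Nat.prime_two).mp h2 with h1 | h1
  · exact orderOf_eq_one_iff.mp h1
  · rw [h1] at h; exact absurd h (by decide)

/-- The only involution of a finite cyclic subgroup. -/
theorem eq_half {a z : G} [Finite G] (hz : orderOf z = 2) (hmem : z ∈ Subgroup.zpowers a) :
    Even (orderOf a) ∧ z = a ^ (orderOf a / 2) := by
  obtain ⟨j, rfl⟩ := (mem_powers_iff_mem_zpowers (x := a)).mpr hmem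
  simp only at hz ⊢
  rw [← pow_mod_orderOf a j] at hz ⊢
  have hk : j % orderOf a < orderOf a := Nat.mod_lt _ (orderOf_pos a)
  generalize j % orderOf a = k at hk hz ⊢
  have h0 : k ≠ 0 := by rintro rfl; simp at hz
  rw [orderOf_pow' _ h0] at hz
  have hd := Nat.gcd_dvd_left (orderOf a) k
  have he := Nat.div_mul_cancel hd
  rw [hz] at he
  obtain ⟨c, hc⟩ := Nat.gcd_dvd_right (orderOf a) k
  refine ⟨⟨Nat.gcd (orderOf a) k, by omega⟩, ?_⟩
  congr 1
  have : c = 1 := by
    by_contra hne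
    rcases Nat.eq_zero_or_pos c with rfl | hpos
    · simp at hc; omega
    · have := Nat.mul_le_mul_left (Nat.gcd (orderOf a) k) (show 2 ≤ c by omega)
      omega
  subst this
  omega

end Cfsg.Agent.Invol
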