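import Cfsg.Prelude.Def_Involutions
import Cfsg.Agent.Lib.Involutions.Basic
import Mathlib.GroupTheory.Sylow
import Mathlib.GroupTheory.Nilpotent

/-!
Elementary criteria for strongly embedded subgroups.
-/

namespace Cfsg.Agent.Invol

variable {G : Type*} [Group G]

theorem mem_conj_map {H : Subgroup G} {g x : G} :
    x ∈ H.map (MulAut.conj g).toMonoidHom ↔ g⁻¹ * x * g ∈ H := by
  constructor
  · rintro ⟨y, hy, rfl⟩
    simpa [mul_assoc] using hy
  · intro h
    exact ⟨_, h, by simp [mul_assoc]⟩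

variable [Finite G]

theorem exists_invol {K : Subgroup G} (h : Even (Nat.card K)) : ∃ t ∈ K, orderOf t = 2 := by
  obtain ⟨t, ht⟩ := exists_prime_orderOf_dvd_card' (p := 2) h.two_dvd
  exact ⟨t, t.2, by rw [Subgroup.orderOf_coe, ht]⟩

theorem even_of_invol_mem {K : Subgroup G} {t : G} (ht : orderOf t = 2) (hmem : t ∈ K) :
    Even (Nat.card K) := by
  have : orderOf (⟨t, hmem⟩ : K) ∣ Nat.card K := orderOf_dvd_natCard _
  rw [Subgroup.orderOf_mk, ht] at this
  exact even_iff_two_dvd.mpr this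

variable {H : Subgroup G} (hH : Cfsg.IsStronglyEmbedded H)
include hH

theorem se_mem_of_conj {g t : G} (ht : orderOf t = 2) (htH : t ∈ H) (hg : g * t * g⁻¹ ∈ H) :
    g ∈ H := by
  by_contra hgH
  refine Nat.not_even_iff_odd.mpr (hH.2.2 g hgH) (even_of_invol_mem (t := g * t * g⁻¹) ?_ ?_)
  · rw [order_conj, ht]
  · refine ⟨hg, mem_conj_map.mpr ?_⟩
    rwa [show g⁻¹ * (g * t * g⁻¹) * g = t by group]

theorem se_centralizer_le {t : G} (ht : orderOf t = 2) (htH : t ∈ H) :
    Subgroup.centralizer ({t} : Set G) ≤ H := fun g hg =>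
  se_mem_of_conj hH ht htH
    (by rw [Subgroup.mem_centralizer_singleton_iff.mp hg, mul_inv_cancel_right]; exact htH)

omit hH

/-- A criterion for strong embedding. -/
theorem se_of_centralizers (hne : H ≠ ⊤) (T : Sylow 2 ↥H) (heven : Even (Nat.card H))
    (hN : Subgroup.normalizer (((T : Subgroup H).map H.subtype : Subgroup G) : Set G) ≤ H)
    (hC : ∀ t ∈ H, orderOf t = 2 → Subgroup.centralizer ({t} : Set G) ≤ H) :
    Cfsg.IsStronglyEmbedded H := by
  -- the Sylow subgroup of H is a Sylow subgroup of G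
  have hmax : ∀ Q : Subgroup G, IsPGroup 2 Q → (T : Subgroup H).map H.subtype ≤ Q →
      Q = (T : Subgroup H).map H.subtype := by
    intro Q hQ hTQ
    by_contra hne
    have hlt : ((T : Subgroup H).map H.subtype).subgroupOf Q < ⊤ := by
      rw [lt_top_iff_ne_top, Ne, Subgroup.subgroupOf_eq_top]
      exact fun h => hne (le_antisymm h hTQ)
    have := hQ.isNilpotent
    obtain ⟨g, hg, hgn⟩ :=
      SetLike.exists_of_lt (Group.normalizerCondition_of_isNilpotent _ hlt)
    have hgH : (g : G) ∈ H := by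
      apply hN
      rw [Subgroup.mem_normalizer_iff]
      intro y
      have hnorm := Subgroup.mem_normalizer_iff.mp hg
      constructor
      · intro hy
        exact (hnorm ⟨y, hTQ hy⟩).mp hy
      · intro hy
        have hyQ : y ∈ Q := by
          have := mul_mem (mul_mem (inv_mem g.2) (hTQ hy)) g.2
          rwa [show (g : G)⁻¹ * ((g : G) * y * (g : G)⁻¹) * g = y by group] at this
        exact (hnorm ⟨y, hyQ⟩).mpr hy
    have hp : IsPGroup 2 (Q.subgroupOf H) := hQ.comap_subtype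
    have hle : (T : Subgroup H) ≤ Q.subgroupOf H := fun y hy => hTQ ⟨y, hy, rfl⟩
    have e := T.3 hp hle
    apply hgn
    have hmem : (⟨g, hgH⟩ : H) ∈ Q.subgroupOf H := g.2
    rw [e] at hmem
    exact ⟨⟨g, hgH⟩, hmem, rfl⟩
  have hp : IsPGroup 2 ((T : Subgroup H).map H.subtype) := T.2.map H.subtype
  obtain ⟨S, hS⟩ := hp.exists_le_sylow
  have hST : (S : Subgroup G) = (T : Subgroup H).map H.subtype := hmax S S.2 hS
  refine ⟨hne, heven, fun g hg => ?_⟩
  rw [← Nat.not_even_iff_odd]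
  intro hev
  obtain ⟨s, hsmem, hs⟩ := exists_invol hev
  obtain ⟨hsH, hsg⟩ := hsmem
  have hsg : g⁻¹ * s * g ∈ H := mem_conj_map.mp hsg
  have hsH : s ∈ H := hsH
  have ht : orderOf (g⁻¹ * s * g) = 2 := by
    rw [show g⁻¹ * s * g = g⁻¹ * s * g⁻¹⁻¹ by group, order_conj, hs]
  -- move the Sylow subgroup so that it contains g⁻¹ * s * g
  have hp1 : IsPGroup 2 (Subgroup.zpowers (⟨g⁻¹ * s * g, hsg⟩ : H)) :=
    IsPGroup.of_card (n := 1) (by rw [Nat.card_zpowers, Subgroup.orderOf_mk, ht, pow_one])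
  obtain ⟨T', hT'⟩ := hp1.exists_le_sylow
  obtain ⟨a, rfl⟩ := MulAction.exists_smul_eq H T T'
  have htT : (a : G)⁻¹ * (g⁻¹ * s * g) * a ∈ S := by
    rw [← SetLike.mem_coe]
    have := hT' (Subgroup.mem_zpowers _)
    rw [Sylow.smul_def, Sylow.pointwise_smul_def, Subgroup.mem_pointwise_smul_iff_inv_smul_mem] at this
    show _ ∈ (S : Subgroup G)
    rw [hST]
    exact ⟨_, this, by simp⟩
  set x := g * a with hx
  have hxH : x ∉ H := fun h => hg (by simpa [hx] using mul_mem h (inv_mem a.2))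
  set t := (a : G)⁻¹ * (g⁻¹ * s * g) * a with htdef
  have htH : t ∈ H := mul_mem (mul_mem (inv_mem a.2) hsg) a.2
  have hto : orderOf t = 2 := by
    rw [htdef, show (a : G)⁻¹ * (g⁻¹ * s * g) * a = (a : G)⁻¹ * (g⁻¹ * s * g) * (a : G)⁻¹⁻¹ by group,
      order_conj, ht]
  have hxt : x * t * x⁻¹ = s := by rw [hx, htdef]; group
  -- a central involution of the Sylow subgroup
  have hSne : 2 ∣ Nat.card S := by
    have hd : orderOf (⟨t, htT⟩ : S) ∣ Nat.card S := orderOf_dvd_natCard _
    rwa [Subgroup.orderOf_mk, hto] at hd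
  have hZ : 2 ∣ Nat.card (Subgroup.center S) := by
    have : Nontrivial S := Finite.one_lt_card_iff_nontrivial.mp
      (lt_of_lt_of_le one_lt_two (Nat.le_of_dvd Nat.card_pos hSne))
    have hnt := S.2.center_nontrivial
    obtain ⟨k, hk⟩ := IsPGroup.iff_card.mp (S.2.to_subgroup (Subgroup.center S))
    have h1 : 1 < Nat.card (Subgroup.center S) := Finite.one_lt_card
    rw [hk] at h1 ⊢
    exact dvd_pow_self 2 (by rintro rfl; simp at h1)
  obtain ⟨z, hz⟩ := exists_prime_orderOf_dvd_card' (p := 2) hZ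
  set z' : G := ((z : S) : G) with hz'
  have hzo : orderOf z' = 2 := by rw [hz', Subgroup.orderOf_coe, Subgroup.orderOf_coe, hz]
  have hzc : ∀ y ∈ S, y * z' = z' * y := by
    intro y hy
    exact congrArg Subtype.val (Subgroup.mem_center_iff.mp z.2 ⟨y, hy⟩)
  have hSH : (S : Subgroup G) ≤ H := hST ▸ Subgroup.map_subtype_le _
  have hxz : x * z' * x⁻¹ ∈ H := by
    refine hC s hsH hs (Subgroup.mem_centralizer_singleton_iff.mpr ?_)
    rw [← hxt]
    calc x * z' * x⁻¹ * (x * t * x⁻¹) = x * (z' * t) * x⁻¹ := by group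
      _ = x * (t * z') * x⁻¹ := by rw [hzc t htT]
      _ = _ := by group
  -- the conjugate Sylow subgroup lies in H
  have hconj : ∀ y ∈ S, x * y * x⁻¹ ∈ H := by
    intro y hy
    refine hC _ hxz (by rw [order_conj, hzo]) (Subgroup.mem_centralizer_singleton_iff.mpr ?_)
    calc x * y * x⁻¹ * (x * z' * x⁻¹) = x * (y * z') * x⁻¹ := by group
      _ = x * (z' * y) * x⁻¹ := by rw [hzc y hy]
      _ = _ := by group
  set R : Subgroup H := ((S : Subgroup G).map (MulAut.conj x).toMonoidHom).subgroupOf H with hR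
  have hRp : IsPGroup 2 R := (S.2.map _).comap_subtype
  obtain ⟨T'', hT''⟩ := hRp.exists_le_sylow
  obtain ⟨b, rfl⟩ := MulAction.exists_smul_eq H T T''
  apply hxH
  have hb : (b : G)⁻¹ * x ∈ Subgroup.normalizer ((S : Subgroup G) : Set G) := by
    refine Subgroup.mem_normalizer_fintype fun y hy => ?_
    have hm : (⟨x * y * x⁻¹, hconj y hy⟩ : H) ∈ R := ⟨y, hy, rfl⟩
    have := hT'' hm
    rw [Sylow.smul_def, Sylow.pointwise_smul_def, Subgroup.mem_pointwise_smul_iff_inv_smul_mem] at this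
    show _ ∈ (S : Subgroup G)
    rw [hST]
    exact ⟨_, this, by simp [mul_assoc]⟩
  rw [hST] at hb
  have := mul_mem b.2 (hN hb)
  simpa using this

end Cfsg.Agent.Invol
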