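import Cfsg.Agent.Lib.Involutions.StronglyEmbedded
import Cfsg.Agent.Lib.Involutions.Dihedral
import Mathlib.GroupTheory.GroupAction.Quotient
import Mathlib.Algebra.BigOperators.Group.Finset.Basic
import Mathlib.Algebra.Order.BigOperators.Group.Finset

/-!
A strongly embedded subgroup: involutions interchanging two cosets.
-/

namespace Cfsg.Agent.Invol

variable {G : Type*} [Group G] [Finite G] {H : Subgroup G} (hH : Cfsg.IsStronglyEmbedded H)
include hH

/-- An involution fixes at most one coset. -/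
theorem se_fix_unique {t : G} (ht : orderOf t = 2) {x y : G ⧸ H} (hx : t • x = x) (hy : t • y = y) :
    x = y := by
  induction x using QuotientGroup.induction_on with
  | _ g =>
    induction y using QuotientGroup.induction_on with
    | _ k =>
      rw [MulAction.Quotient.smul_mk, QuotientGroup.eq, smul_eq_mul, mul_inv_rev, inv_self ht] at hx hy
      rw [QuotientGroup.eq]
      have h := se_mem_of_conj hH (g := k⁻¹ * g) (t := g⁻¹ * t * g)
        (by rw [show g⁻¹ * t * g = g⁻¹ * t * g⁻¹⁻¹ by group, order_conj, ht]) hx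
        (by rwa [show k⁻¹ * g * (g⁻¹ * t * g) * (k⁻¹ * g)⁻¹ = k⁻¹ * t * k by group])
      have := inv_mem h
      rwa [mul_inv_rev, inv_inv] at this

/-- An involution inside and one outside have a product of odd order. -/
theorem se_odd_of_not_mem {s u : G} (hs : orderOf s = 2) (hsH : s ∈ H) (hu : orderOf u = 2)
    (huH : u ∉ H) : Odd (orderOf (s * u)) := by
  rw [← Nat.not_even_iff_odd]
  intro he
  have hc := half_commute hs hu he
  have hz := half_order hs hu he (orderOf_pos _)
  have hzH := se_centralizer_le hH hs hsH (Subgroup.mem_centralizer_singleton_iff.mpr hc.1.eq)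
  exact huH (se_centralizer_le hH hz hzH (Subgroup.mem_centralizer_singleton_iff.mpr hc.2.symm.eq))

/-- All involutions are conjugate. -/
theorem se_isConj {a b : G} (ha : orderOf a = 2) (hb : orderOf b = 2) : IsConj a b := by
  obtain ⟨t, htH, ht⟩ := exists_invol hH.2.1
  obtain ⟨g, hg⟩ : ∃ g, g ∉ H := by
    by_contra h
    push Not at h
    exact hH.1 (eq_top_iff.mpr fun g _ => h g)
  have hv : orderOf (g * t * g⁻¹) = 2 := by rw [order_conj, ht]
  have hvH : g * t * g⁻¹ ∉ H := fun h => hg (se_mem_of_conj hH ht htH h)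
  have key : ∀ s u : G, orderOf s = 2 → s ∈ H → orderOf u = 2 → u ∉ H → IsConj s u := by
    intro s u hs hsH hu huH
    obtain ⟨d, -, hd⟩ := conj_of_odd hs hu (se_odd_of_not_mem hH hs hsH hu huH)
    exact isConj_iff.mpr ⟨d, hd⟩
  have hall : ∀ c : G, orderOf c = 2 → IsConj t c := by
    intro c hc
    by_cases h : c ∈ H
    · exact (key t _ ht htH hv hvH).trans (key c _ hc h hv hvH).symm
    · exact key t c ht htH hc h
  exact (hall a ha).symm.trans (hall b hb)

theorem se_exists_fix {t : G} (ht : orderOf t = 2) : ∃ x : G ⧸ H, t • x = x := by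
  obtain ⟨s, hsH, hs⟩ := exists_invol hH.2.1
  obtain ⟨g, hg⟩ := isConj_iff.mp (se_isConj hH hs ht)
  refine ⟨(g : G ⧸ H), ?_⟩
  rw [MulAction.Quotient.smul_mk, QuotientGroup.eq, smul_eq_mul, ← hg]
  rw [show (g * s * g⁻¹ * g)⁻¹ * g = s⁻¹ by group]
  exact inv_mem hsH

/-- Involutions fixing different cosets are interchanged by an involution interchanging the cosets. -/
theorem se_swap {s u : G} (hs : orderOf s = 2) (hu : orderOf u = 2) {x y : G ⧸ H}
    (hx : s • x = x) (hy : u • y = y) (hxy : x ≠ y) :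
    ∃ w : G, orderOf w = 2 ∧ w • x = y ∧ w * s * w⁻¹ = u := by
  have hodd : Odd (orderOf (s * u)) := by
    rw [← Nat.not_even_iff_odd]
    intro he
    have hc := half_commute hs hu he
    have hz := half_order hs hu he (orderOf_pos _)
    set z := (s * u) ^ (orderOf (s * u) / 2)
    have h1 : z • x = x := by
      refine se_fix_unique hH hs ?_ hx
      rw [← mul_smul, hc.1.symm.eq, mul_smul, hx]
    have h2 : z • y = y := by
      refine se_fix_unique hH hu ?_ hy
      rw [← mul_smul, hc.2.symm.eq, mul_smul, hy]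
    exact hxy (se_fix_unique hH hz h1 h2)
  have hne : s ≠ u := fun h => hxy (se_fix_unique hH hs hx (h ▸ hy))
  obtain ⟨m, hm⟩ := hodd
  refine ⟨(s * u) ^ (m : ℤ) * s, ?_, ?_, ?_⟩
  · refine order_two_of_sq (inverted_mul_invol hs (conj_mul hs hu) m) fun h => ?_
    exact not_mem_zpowers hs hu hne
      ⟨-(m : ℤ), (zpow_neg (s * u) m).trans (inv_eq_of_mul_eq_one_right h)⟩
  · set w := (s * u) ^ (m : ℤ) * s with hw
    have hconj : w * s * w⁻¹ = u := by
      rw [hw, show (s * u) ^ (m : ℤ) * s * s * ((s * u) ^ (m : ℤ) * s)⁻¹ =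
        (s * u) ^ (m : ℤ) * s * ((s * u) ^ (m : ℤ))⁻¹ by group, zpow_mul_conj (conj_mul hs hu)]
      conv_rhs => rw [y_eq hs hu]
      congr 1
      have h1 : (s * u) ^ (2 * (m : ℤ) + 1) = 1 := by
        have := pow_orderOf_eq_one (s * u)
        rw [hm, ← zpow_natCast] at this
        push_cast at this; exact this
      rw [zpow_add, zpow_one] at h1
      rw [zpow_neg_one]
      exact mul_eq_one_iff_eq_inv.mp h1
    refine se_fix_unique hH hu ?_ hy
    rw [← hconj, mul_smul, inv_smul_smul, mul_smul, hx]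
  · rw [show (s * u) ^ (m : ℤ) * s * s * ((s * u) ^ (m : ℤ) * s)⁻¹ =
        (s * u) ^ (m : ℤ) * s * ((s * u) ^ (m : ℤ))⁻¹ by group, zpow_mul_conj (conj_mul hs hu)]
    conv_rhs => rw [y_eq hs hu]
    congr 1
    have h1 : (s * u) ^ (2 * (m : ℤ) + 1) = 1 := by
      have := pow_orderOf_eq_one (s * u)
      rw [hm, ← zpow_natCast] at this
      push_cast at this; exact this
    rw [zpow_add, zpow_one] at h1
    rw [zpow_neg_one]
    exact mul_eq_one_iff_eq_inv.mp h1

omit hH

/-- The involutions fixing a coset. -/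
abbrev FixInv (x : G ⧸ H) : Type _ := {t : G // orderOf t = 2 ∧ t • x = x}

/-- The involutions mapping one coset to another. -/
abbrev SwapInv (x y : G ⧸ H) : Type _ := {t : G // orderOf t = 2 ∧ t • x = y}

theorem card_fixInv (x : G ⧸ H) :
    Nat.card (FixInv x) = Nat.card {t : G // orderOf t = 2 ∧ t ∈ H} := by
  induction x using QuotientGroup.induction_on with
  | _ g =>
    refine Nat.card_congr (Equiv.subtypeEquiv (MulAut.conj g⁻¹).toEquiv fun t => ?_)
    simp only [MulEquiv.toEquiv_eq_coe, EquivLike.coe_coe, MulAut.conj_apply, inv_inv]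
    have e : g⁻¹ * t * g = MulAut.conj g⁻¹ t := by simp
    rw [MulAction.Quotient.smul_mk, QuotientGroup.eq, smul_eq_mul,
      show orderOf (g⁻¹ * t * g) = orderOf t by rw [e, MulEquiv.orderOf_eq]]
    refine and_congr_right fun ht => ?_
    rw [mul_inv_rev, inv_self ht]

/-- Two cosets are interchanged by as many involutions as fix one coset. -/
theorem card_swapInv (hH : Cfsg.IsStronglyEmbedded H) {x y : G ⧸ H} (hxy : x ≠ y) :
    Nat.card (SwapInv x y) = Nat.card {t : G // orderOf t = 2 ∧ t ∈ H} := by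
  classical
  have := Fintype.ofFinite (G ⧸ H)
  set n := Nat.card {t : G // orderOf t = 2 ∧ t ∈ H}
  obtain ⟨s, hs⟩ : Nonempty (FixInv x) := by
    apply (Nat.card_pos_iff.mp ?_).1
    rw [card_fixInv]
    obtain ⟨t, htH, ht⟩ := exists_invol hH.2.1
    exact Nat.card_pos_iff.mpr ⟨⟨⟨t, ht, htH⟩⟩, inferInstance⟩
  have hge : ∀ z : G ⧸ H, n ≤ Nat.card (SwapInv x z) := by
    intro z
    by_cases hz : x = z
    · subst hz; exact (card_fixInv x).ge
    rw [show n = Nat.card (FixInv z) from (card_fixInv z).symm]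
    choose f hfo hf hfc using fun u : FixInv z => se_swap hH hs.1 u.2.1 hs.2 u.2.2 hz
    refine Nat.card_le_card_of_injective (fun u => (⟨f u, hfo u, hf u⟩ : SwapInv x z)) ?_
    intro a b h
    have h' : f a = f b := Subtype.ext_iff.mp h
    exact Subtype.ext (by rw [← hfc a, ← hfc b, h'])
  have htot : ∑ z : G ⧸ H, Nat.card (SwapInv x z) = ∑ z : G ⧸ H, Nat.card (FixInv z) := by
    rw [← Nat.card_sigma, ← Nat.card_sigma]
    refine Nat.card_congr ((Equiv.ofBijective (fun p : Σ z : G ⧸ H, SwapInv x z =>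
      (⟨p.2.1, p.2.2.1⟩ : {t : G // orderOf t = 2})) ⟨?_, ?_⟩).trans
      (Equiv.ofBijective (fun p : Σ z : G ⧸ H, FixInv z =>
        (⟨p.2.1, p.2.2.1⟩ : {t : G // orderOf t = 2})) ⟨?_, ?_⟩).symm)
    · rintro ⟨a, ta, ha⟩ ⟨b, tb, hb⟩ h
      obtain rfl : ta = tb := Subtype.ext_iff.mp h
      obtain rfl : a = b := ha.2.symm.trans hb.2
      rfl
    · exact fun t => ⟨⟨t.1 • x, t.1, t.2, rfl⟩, rfl⟩
    · rintro ⟨a, ta, ha⟩ ⟨b, tb, hb⟩ h
      obtain rfl : ta = tb := Subtype.ext_iff.mp h
      obtain rfl : a = b := se_fix_unique hH ha.1 ha.2 hb.2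
      rfl
    · intro t
      obtain ⟨z, hz⟩ := se_exists_fix hH t.2
      exact ⟨⟨z, t.1, t.2, hz⟩, rfl⟩
  by_contra hne
  have hlt : ∑ z : G ⧸ H, Nat.card (FixInv z) < ∑ z : G ⧸ H, Nat.card (SwapInv x z) := by
    refine Finset.sum_lt_sum (fun z _ => (card_fixInv z).trans_le (hge z))
      ⟨y, Finset.mem_univ _, ?_⟩
    rw [card_fixInv]
    exact lt_of_le_of_ne (hge y) (Ne.symm hne)
  omega

/-- For fixed `s` the conjugation map from swapping involutions is bijective. -/
theorem swap_conj_bijective (hH : Cfsg.IsStronglyEmbedded H) {x y : G ⧸ H} (hxy : x ≠ y)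
    (s : FixInv x) :
    Function.Bijective (fun w : SwapInv x y =>
      (⟨w.1 * s.1 * w.1⁻¹, by rw [order_conj, s.2.1], by
        have h : w.1⁻¹ • y = x := inv_smul_eq_iff.mpr w.2.2.symm
        rw [mul_smul, mul_smul, h, s.2.2, w.2.2]⟩ : FixInv y)) := by
  have hsurj : Function.Surjective (fun w : SwapInv x y =>
      (⟨w.1 * s.1 * w.1⁻¹, by rw [order_conj, s.2.1], by
        have h : w.1⁻¹ • y = x := inv_smul_eq_iff.mpr w.2.2.symm
        rw [mul_smul, mul_smul, h, s.2.2, w.2.2]⟩ : FixInv y)) := by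
    intro u
    obtain ⟨w, hw, hwx, hwc⟩ := se_swap hH s.2.1 u.2.1 s.2.2 u.2.2 hxy
    exact ⟨⟨w, hw, hwx⟩, Subtype.ext hwc⟩
  exact ⟨hsurj.injective_of_finite (Finite.equivFinOfCardEq ((card_swapInv hH hxy).trans (card_fixInv y).symm)
    |>.trans (Finite.equivFin (FixInv y)).symm), hsurj⟩

end Cfsg.Agent.Invol
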