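import Cfsg.Agent.Lib.Involutions.Basic
import Mathlib.GroupTheory.Index
import Mathlib.GroupTheory.Coset.Card
import Mathlib.Algebra.BigOperators.Group.Finset.Basic
import Mathlib.Algebra.Order.BigOperators.Group.Finset
import Mathlib.SetTheory.Cardinal.Finite
import Mathlib.Algebra.Group.Conj
import Mathlib.GroupTheory.Perm.Cycle.Type

/-!
Counting products of two involutions (Brauer–Fowler).
-/

namespace Cfsg.Agent.Invol

variable {G : Type*} [Group G]

/-- Pairs of involutions with product `x`. -/
abbrev Pairs (x : G) : Type _ :=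
  {p : G × G // orderOf p.1 = 2 ∧ orderOf p.2 = 2 ∧ p.1 * p.2 = x}

theorem pair_fst_inverts {x : G} (p : Pairs x) : p.1.1 * x * p.1.1⁻¹ = x⁻¹ := by
  have := conj_mul p.2.1 p.2.2.1
  rwa [p.2.2.2] at this

theorem pair_fst_injective (x : G) : Function.Injective (fun p : Pairs x => p.1.1) := by
  rintro ⟨⟨a, b⟩, ha⟩ ⟨⟨a', b'⟩, ha'⟩ h
  simp only at h ha ha'
  obtain rfl : a = a' := h
  obtain rfl : b = b' := mul_left_cancel (a := a) (by rw [ha.2.2, ha'.2.2])
  rfl

theorem mul_inverted_sq {t x : G} (ht : orderOf t = 2) (h : t * x * t⁻¹ = x⁻¹) :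
    (t * x) * (t * x) = 1 := by
  rw [inv_self ht] at h
  rw [← mul_assoc, h, inv_mul_cancel]

theorem card_pairs_eq_inverting (x : G) (hx : x ^ 2 ≠ 1) :
    Nat.card (Pairs x) = Nat.card {t : G // orderOf t = 2 ∧ t * x * t⁻¹ = x⁻¹} := by
  refine Nat.card_congr
    { toFun := fun p => ⟨p.1.1, p.2.1, pair_fst_inverts p⟩
      invFun := fun t => ⟨(t.1, t.1 * x), t.2.1, ?_, ?_⟩
      left_inv := fun p => pair_fst_injective x rfl
      right_inv := fun _ => rfl }
  · refine order_two_of_sq (mul_inverted_sq t.2.1 t.2.2) ?_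
    intro h
    rw [mul_eq_one_iff_eq_inv] at h
    apply hx
    rw [pow_two, mul_eq_one_iff_eq_inv]
    have := inv_self t.2.1
    rw [h, inv_inv] at this
    exact this
  · rw [← mul_assoc, mul_self t.2.1, one_mul]

variable [Finite G]

theorem card_inverting_eq (x g₀ : G) (h : g₀ * x * g₀⁻¹ = x⁻¹) :
    Nat.card {g : G // g * x * g⁻¹ = x⁻¹} = Nat.card (Subgroup.centralizer ({x} : Set G)) := by
  refine Nat.card_congr
    { toFun := fun g => ⟨g₀⁻¹ * g.1, Subgroup.mem_centralizer_singleton_iff.mpr ?_⟩
      invFun := fun c => ⟨g₀ * c.1, ?_⟩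
      left_inv := fun g => Subtype.ext (mul_inv_cancel_left _ _)
      right_inv := fun c => Subtype.ext (inv_mul_cancel_left _ _) }
  · have h1 : g₀ * x * g₀⁻¹ = g.1 * x * g.1⁻¹ := h.trans g.2.symm
    have : x * (g₀⁻¹ * g.1) = g₀⁻¹ * g.1 * x := by
      calc x * (g₀⁻¹ * g.1) = g₀⁻¹ * (g₀ * x * g₀⁻¹) * g.1 := by group
        _ = g₀⁻¹ * (g.1 * x * g.1⁻¹) * g.1 := by rw [h1]
        _ = g₀⁻¹ * g.1 * x := by group
    exact this.symm
  · have := Subgroup.mem_centralizer_singleton_iff.mp c.2
    calc g₀ * c.1 * x * (g₀ * c.1)⁻¹ = g₀ * (c.1 * x) * c.1⁻¹ * g₀⁻¹ := by group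
      _ = g₀ * (x * c.1) * c.1⁻¹ * g₀⁻¹ := by rw [this]
      _ = g₀ * x * g₀⁻¹ := by group
      _ = x⁻¹ := h

theorem card_pairs_le (x : G) :
    Nat.card (Pairs x) ≤ Nat.card (Subgroup.centralizer ({x} : Set G)) := by
  rcases isEmpty_or_nonempty (Pairs x) with h | ⟨⟨p⟩⟩
  · simp
  · rw [← card_inverting_eq x p.1.1 (pair_fst_inverts p)]
    refine Nat.card_le_card_of_injective (fun q => ⟨q.1.1, pair_fst_inverts q⟩) ?_
    intro a b h
    exact pair_fst_injective x (Subtype.ext_iff.mp h)

theorem card_pairs_eq_zero (x : G) (h : ¬ IsConj x x⁻¹) : Nat.card (Pairs x) = 0 := by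
  have : IsEmpty (Pairs x) := ⟨fun p => h (isConj_iff.mpr ⟨p.1.1, pair_fst_inverts p⟩)⟩
  exact Nat.card_of_isEmpty

theorem card_pairs_invol {x : G} (hx : orderOf x = 2) :
    Nat.card (Pairs x) + 2 ≤ Nat.card (Subgroup.centralizer ({x} : Set G)) := by
  classical
  have := Fintype.ofFinite G
  have hinj : Function.Injective
      (Sum.elim (fun p : Pairs x => p.1.1) (fun b : Bool => if b then x else 1)) := by
    refine Function.Injective.sumElim (pair_fst_injective x) ?_ ?_
    · intro a b h
      cases a <;> cases b <;> simp_all [ne_one hx, (ne_one hx).symm]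
    · rintro p b h
      rcases b with _ | _
      · simp at h
        exact ne_one p.2.1 h
      · simp at h
        have := p.2.2.2
        rw [h] at this
        exact ne_one p.2.2.1 (mul_eq_left.mp this)
  have hmem : ∀ s : Pairs x ⊕ Bool,
      Sum.elim (fun p : Pairs x => p.1.1) (fun b : Bool => if b then x else 1) s ∈
        Subgroup.centralizer ({x} : Set G) := by
    rintro (p | b)
    · rw [Subgroup.mem_centralizer_singleton_iff]
      have h := pair_fst_inverts p
      rw [inv_self hx, mul_inv_eq_iff_eq_mul] at h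
      exact h
    · rw [Subgroup.mem_centralizer_singleton_iff]
      cases b <;> simp
  have := Nat.card_le_card_of_injective (fun s => (⟨_, hmem s⟩ : Subgroup.centralizer ({x} : Set G)))
    (fun a b h => hinj (Subtype.ext_iff.mp h))
  simpa [Nat.card_sum] using this

/-- The number of involutions. -/
noncomputable abbrev numInvol (G : Type*) [Group G] : ℕ := Nat.card {t : G // orderOf t = 2}

theorem numInvol_sq [Fintype G] : numInvol G * numInvol G = ∑ x : G, Nat.card (Pairs x) := by
  rw [← Nat.card_prod, ← Nat.card_sigma]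
  exact Nat.card_congr
    { toFun := fun p => ⟨p.1.1 * p.2.1, ⟨(p.1.1, p.2.1), p.1.2, p.2.2, rfl⟩⟩
      invFun := fun s => (⟨s.2.1.1, s.2.2.1⟩, ⟨s.2.1.2, s.2.2.2.1⟩)
      left_inv := fun _ => rfl
      right_inv := fun s => by
        obtain ⟨x, ⟨⟨u, v⟩, hu, hv, rfl⟩⟩ := s
        rfl }

theorem card_pairs_one : Nat.card (Pairs (1 : G)) = numInvol G := by
  exact Nat.card_congr
    { toFun := fun p => ⟨p.1.1, p.2.1⟩
      invFun := fun t => ⟨(t.1, t.1), t.2, t.2, mul_self t.2⟩
      left_inv := fun p => pair_fst_injective 1 rfl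
      right_inv := fun _ => rfl }

/-- The extended centralizer of `x`. -/
def extCentralizer (x : G) : Subgroup G where
  carrier := {g | g * x * g⁻¹ = x ∨ g * x * g⁻¹ = x⁻¹}
  one_mem' := Or.inl (by simp)
  mul_mem' := by
    rintro a b ha hb
    have e : a * b * x * (a * b)⁻¹ = a * (b * x * b⁻¹) * a⁻¹ := by group
    rcases hb with hb | hb
    · rcases ha with ha | ha
      · exact Or.inl (by rw [e, hb, ha])
      · exact Or.inr (by rw [e, hb, ha])
    · rcases ha with ha | ha
      · exact Or.inr (by rw [e, hb, ← _root_.conj_inv, ha])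
      · exact Or.inl (by rw [e, hb, ← _root_.conj_inv, ha, inv_inv])
  inv_mem' := by
    rintro a (ha | ha)
    · left
      conv_lhs => rw [← ha]
      group
    · right
      have : a * x⁻¹ * a⁻¹ = x := by rw [← _root_.conj_inv, ha, inv_inv]
      conv_lhs => rw [← this]
      group

/-- The Brauer–Fowler bound on the index of a proper subgroup. -/
theorem exists_small_index (heven : Even (Nat.card G)) (hZ : Odd (Nat.card (Subgroup.center G))) :
    ∃ H : Subgroup G, H ≠ ⊤ ∧
      (H.index = 2 ∨ 2 * H.index * (numInvol G * (numInvol G + 1)) ≤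
        Nat.card G * (Nat.card G + numInvol G - 1)) := by
  classical
  have := Fintype.ofFinite G
  obtain ⟨t, ht⟩ := exists_prime_orderOf_dvd_card' (p := 2) heven.two_dvd
  by_cases h2 : ∃ H : Subgroup G, H ≠ ⊤ ∧ H.index = 2
  · obtain ⟨H, hH, h⟩ := h2; exact ⟨H, hH, Or.inl h⟩
  simp only [not_exists, not_and] at h2
  have hne : (⊥ : Subgroup G) ≠ ⊤ := by
    intro h
    exact ne_one ht (Subgroup.mem_bot.mp (h ▸ Subgroup.mem_top t))
  have : Finite (Subgroup G) :=
    Finite.of_injective (fun H : Subgroup G => (H : Set G)) SetLike.coe_injective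
  have := Fintype.ofFinite (Subgroup G)
  obtain ⟨H, hH, hmin⟩ := Finset.exists_min_image
    (Finset.univ.filter (fun H : Subgroup G => H ≠ ⊤)) (fun H => H.index) ⟨⊥, by simp [hne]⟩
  simp only [Finset.mem_filter, Finset.mem_univ, true_and] at hH hmin
  refine ⟨H, hH, Or.inr ?_⟩
  have bound : ∀ K : Subgroup G, K ≠ ⊤ → H.index * Nat.card K ≤ Nat.card G := by
    intro K hK
    calc H.index * Nat.card K ≤ K.index * Nat.card K := Nat.mul_le_mul_right _ (hmin K hK)
      _ = Nat.card G := by rw [mul_comm, Subgroup.card_mul_index]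
  have hInv : ∀ x : G, orderOf x = 2 →
      2 * H.index * Nat.card (Pairs x) + 4 * H.index ≤ 2 * Nat.card G := by
    intro x hx
    have hne : Subgroup.centralizer ({x} : Set G) ≠ ⊤ := by
      intro htop
      have hmem : x ∈ Subgroup.center G := by
        rw [Subgroup.mem_center_iff]
        intro g
        exact Subgroup.mem_centralizer_singleton_iff.mp (htop ▸ Subgroup.mem_top g)
      have hd : orderOf (⟨x, hmem⟩ : Subgroup.center G) ∣ Nat.card (Subgroup.center G) :=
        orderOf_dvd_natCard _
      rw [Subgroup.orderOf_mk, hx] at hd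
      exact Nat.not_even_iff_odd.mpr hZ (even_iff_two_dvd.mpr hd)
    have h1 := Nat.mul_le_mul_left H.index (card_pairs_invol hx)
    have h3 := bound _ hne
    linarith
  have hOther : ∀ x : G, x ^ 2 ≠ 1 → 2 * H.index * Nat.card (Pairs x) ≤ Nat.card G := by
    intro x hx
    rcases isEmpty_or_nonempty (Pairs x) with h | ⟨⟨p⟩⟩
    · simp
    · have hmem : ∀ b : Bool, ∀ c : Subgroup.centralizer ({x} : Set G),
          (if b then p.1.1 else 1) * c.1 ∈ extCentralizer x := by
        intro b c
        refine mul_mem ?_ (Or.inl ?_)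
        · cases b
          · exact one_mem _
          · exact Or.inr (pair_fst_inverts p)
        · rw [mul_inv_eq_iff_eq_mul]
          exact Subgroup.mem_centralizer_singleton_iff.mp c.2
      have hinj : Function.Injective
          (fun bc : Bool × Subgroup.centralizer ({x} : Set G) =>
            (⟨_, hmem bc.1 bc.2⟩ : extCentralizer x)) := by
        rintro ⟨b, c⟩ ⟨b', c'⟩ h
        simp only [Subtype.mk.injEq] at h
        have key : ∀ c₁ c₂ : Subgroup.centralizer ({x} : Set G), p.1.1 * c₁.1 ≠ c₂.1 := by
          intro c₁ c₂ he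
          have hu : p.1.1 ∈ Subgroup.centralizer ({x} : Set G) := by
            rw [show p.1.1 = c₂.1 * c₁.1⁻¹ by rw [← he, mul_inv_cancel_right]]
            exact mul_mem c₂.2 (inv_mem c₁.2)
          have hc := Subgroup.mem_centralizer_singleton_iff.mp hu
          have := pair_fst_inverts p
          rw [hc, mul_inv_cancel_right] at this
          exact hx (by rw [pow_two]; exact mul_eq_one_iff_eq_inv.mpr this)
        cases b <;> cases b' <;> simp only [if_true, if_false, one_mul, Bool.false_eq_true] at h
        · rw [Prod.mk.injEq]; exact ⟨rfl, Subtype.ext h⟩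
        · exact absurd h.symm (key c' c)
        · exact absurd h (key c c')
        · rw [Prod.mk.injEq]; exact ⟨rfl, Subtype.ext (mul_left_cancel h)⟩
      have hle := Nat.card_le_card_of_injective _ hinj
      rw [Nat.card_prod, Nat.card_eq_fintype_card (α := Bool), Fintype.card_bool] at hle
      by_cases htop : extCentralizer x = ⊤
      · exfalso
        refine h2 (Subgroup.centralizer ({x} : Set G)) ?_ ?_
        · intro hc
          have hu := Subgroup.mem_centralizer_singleton_iff.mp
            (hc ▸ Subgroup.mem_top p.1.1 : p.1.1 ∈ Subgroup.centralizer ({x} : Set G))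
          have := pair_fst_inverts p
          rw [hu, mul_inv_cancel_right] at this
          exact hx (by rw [pow_two]; exact mul_eq_one_iff_eq_inv.mpr this)
        · rw [Subgroup.index_eq_two_iff_exists_notMem_and]
          have hnot : p.1.1 ∉ Subgroup.centralizer ({x} : Set G) := by
            intro hm
            have hu := Subgroup.mem_centralizer_singleton_iff.mp hm
            have := pair_fst_inverts p
            rw [hu, mul_inv_cancel_right] at this
            exact hx (by rw [pow_two]; exact mul_eq_one_iff_eq_inv.mpr this)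
          refine ⟨p.1.1, hnot, fun b => ?_⟩
          have hb : b ∈ extCentralizer x := htop ▸ Subgroup.mem_top b
          rcases hb with hb | hb
          · exact Or.inr (Subgroup.mem_centralizer_singleton_iff.mpr (mul_inv_eq_iff_eq_mul.mp hb))
          · left
            rw [Subgroup.mem_centralizer_singleton_iff, ← mul_inv_eq_iff_eq_mul]
            have hu := pair_fst_inverts p
            calc b * p.1.1 * x * (b * p.1.1)⁻¹ = b * (p.1.1 * x * p.1.1⁻¹) * b⁻¹ := by group
              _ = (b * x * b⁻¹)⁻¹ := by rw [hu, _root_.conj_inv]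
              _ = x := by rw [hb, inv_inv]
      · calc 2 * H.index * Nat.card (Pairs x)
            ≤ 2 * H.index * Nat.card (Subgroup.centralizer ({x} : Set G)) :=
              Nat.mul_le_mul_left _ (card_pairs_le x)
          _ = H.index * (2 * Nat.card (Subgroup.centralizer ({x} : Set G))) := by ring
          _ ≤ H.index * Nat.card (extCentralizer x) := Nat.mul_le_mul_left _ hle
          _ ≤ Nat.card G := bound _ htop
  have hsum := numInvol_sq (G := G)
  set T := H.index
  set g := Nat.card G
  set n := numInvol G with hn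
  -- compare pointwise
  have hpt : ∀ x : G, 2 * T * Nat.card (Pairs x) + (if orderOf x = 2 then 4 * T else 0) +
        (if x = 1 then g else 0) ≤
      g + (if orderOf x = 2 then g else 0) + (if x = 1 then 2 * T * n else 0) := by
    intro x
    by_cases h1 : x = 1
    · subst h1
      simp only [orderOf_one, OfNat.one_ne_ofNat, if_false, if_true, add_zero, card_pairs_one]
      simp only [← hn]
      omega
    · by_cases hx : orderOf x = 2
      · simp only [h1, hx, if_false, if_true]
        have := hInv x hx
        omega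
      · simp only [h1, hx, if_false, add_zero]
        refine hOther x ?_
        intro he
        exact hx (orderOf_eq_prime he h1)
  have hS := Finset.sum_le_sum (fun x (_ : x ∈ Finset.univ) => hpt x)
  simp only [Finset.sum_add_distrib, ← Finset.mul_sum, ← hsum, Finset.sum_ite_eq', Finset.mem_univ,
    if_true, Finset.sum_const, Finset.card_univ, smul_eq_mul] at hS
  have hcard : Fintype.card G = g := (Nat.card_eq_fintype_card).symm
  have hn' : (Finset.univ.filter (fun x : G => orderOf x = 2)).card = n := by
    rw [hn, numInvol, Nat.card_eq_fintype_card, Fintype.card_subtype]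
  simp only [← Finset.sum_filter, Finset.sum_const, smul_eq_mul, hn', hcard] at hS
  have hgpos : 0 < g := Nat.card_pos
  have : 2 * T * (n * (n + 1)) + g ≤ g * (g + n) := by
    have e1 : 2 * T * (n * (n + 1)) + g + 2 * T * n = 2 * T * (n * n) + n * (4 * T) + g := by ring
    have e2 : g * (g + n) = g * g + n * g := by ring
    omega
  have e3 : g * (g + n - 1) + g = g * (g + n) := by
    rw [← Nat.mul_succ]; congr 1; omega
  omega

theorem card_centralizer_mul_numInvol {t : G} (ht : orderOf t = 2) :
    Nat.card G ≤ Nat.card (Subgroup.centralizer ({t} : Set G)) * numInvol G := by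
  rw [← Subgroup.card_mul_index (Subgroup.centralizer ({t} : Set G))]
  refine Nat.mul_le_mul_left _ ?_
  refine Nat.card_le_card_of_injective (fun q : G ⧸ Subgroup.centralizer ({t} : Set G) =>
    (⟨q.out * t * q.out⁻¹, by rw [order_conj, ht]⟩ : {t : G // orderOf t = 2})) ?_
  intro a b h
  rw [← QuotientGroup.out_eq' a, ← QuotientGroup.out_eq' b, QuotientGroup.eq,
    Subgroup.mem_centralizer_singleton_iff]
  have h' : a.out * t * a.out⁻¹ = b.out * t * b.out⁻¹ := Subtype.ext_iff.mp h
  calc a.out⁻¹ * b.out * t = a.out⁻¹ * (b.out * t * b.out⁻¹) * b.out := by group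
    _ = a.out⁻¹ * (a.out * t * a.out⁻¹) * b.out := by rw [h']
    _ = t * (a.out⁻¹ * b.out) := by group

end Cfsg.Agent.Invol
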