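import Cfsg.Agent.Lib.Involutions.ElemCentralizer
import Mathlib.FieldTheory.Finite.GaloisField
import Mathlib.RingTheory.IntegralDomain

/-!
The field structure carried by the Sylow 2-subgroup.
-/

namespace Cfsg.Agent.Invol.ElemCase

variable {G : Type*} [Group G] [Finite G] {T : Sylow 2 G} (hT : ElemCase T)
include hT

theorem conj_mem {h t : G} (hh : h ∈ hT.N) (ht : t ∈ (T : Subgroup G)) :
    h * t * h⁻¹ ∈ (T : Subgroup G) :=
  (Subgroup.mem_normalizer_iff.mp hh t).mp ht

/-- A two-point stabilizer is transitive on the involutions of `T`. -/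
theorem stab_trans {y : G ⧸ hT.N} (hy : y ≠ hT.base) {a b : G} (ha : a ∈ (T : Subgroup G))
    (ha1 : a ≠ 1) (hb : b ∈ (T : Subgroup G)) (hb1 : b ≠ 1) :
    ∃ d ∈ hT.Stab2 hT.base y, d * a * d⁻¹ = b := by
  obtain ⟨d, hd⟩ := (hT.stab_bijective hy.symm ⟨a, hT.order_T ha ha1, hT.smul_T ha⟩).2
    ⟨b, hT.order_T hb hb1, hT.smul_T hb⟩
  exact ⟨d, d.2, Subtype.ext_iff.mp hd⟩

/-- There is a finite field structure on `T` with multiplications realised by the stabilizer. -/
theorem exists_field {y : G ⧸ hT.N} (hy : y ≠ hT.base) {v : G} (hv : v ∈ (T : Subgroup G))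
    (hv1 : v ≠ 1) :
    ∃ (k : ℕ) (θ : GaloisField 2 k → G), Nat.card (GaloisField 2 k) = Nat.card T ∧
      θ 1 = v ∧ (∀ a, θ a ∈ (T : Subgroup G)) ∧ Function.Injective θ ∧
      (∀ t ∈ (T : Subgroup G), ∃ a, θ a = t) ∧ (∀ a b, θ (a + b) = θ a * θ b) ∧
      (∀ a, a ≠ 0 → ∃ d ∈ hT.Stab2 hT.base y, ∀ x, θ (a * x) = d * θ x * d⁻¹) := by
  letI : CommGroup (T : Subgroup G) :=
    { (inferInstance : Group (T : Subgroup G)) with
      mul_comm := fun a b => Subtype.ext (hT.comm_T a.2 b.2).eq }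
  let D := hT.Stab2 hT.base y
  let c : D → AddMonoid.End (Additive (T : Subgroup G)) := fun d =>
    MonoidHom.toAdditive
      ({ toFun := fun t => ⟨(d : G) * t.1 * (d : G)⁻¹, hT.conj_mem (hT.stab2_le_N d.2) t.2⟩
         map_one' := Subtype.ext (by simp)
         map_mul' := fun a b => Subtype.ext (by simp [mul_assoc]) } :
        (T : Subgroup G) →* (T : Subgroup G))
  let val : Additive (T : Subgroup G) → G := fun t => (Additive.toMul t).1
  have capply : ∀ (d : D) (t : Additive (T : Subgroup G)),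
      val (c d t) = (d : G) * val t * (d : G)⁻¹ := fun _ _ => rfl
  let R : Subring (AddMonoid.End (Additive (T : Subgroup G))) := Subring.centralizer (Set.range c)
  have hext : ∀ {a b : Additive (T : Subgroup G)},
      val a = val b → a = b :=
    fun h => Additive.toMul.injective (Subtype.ext h)
  have hcR : ∀ d, c d ∈ R := by
    intro d
    rw [Subring.mem_centralizer_iff]
    rintro _ ⟨e, rfl⟩
    refine AddMonoidHom.ext fun t => hext ?_
    show val (c e (c d t)) = val (c d (c e t))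
    rw [capply, capply, capply, capply,
      show ∀ x : G, (e : G) * ((d : G) * x * (d : G)⁻¹) * (e : G)⁻¹ =
        ((e : G) * d) * x * ((e : G) * d)⁻¹ from fun x => by group,
      (hT.stab_comm hy.symm e.2 d.2).eq]
    group
  set v₀ : Additive (T : Subgroup G) := Additive.ofMul ⟨v, hv⟩ with hv₀
  have htrans : ∀ t : Additive (T : Subgroup G), t ≠ 0 → ∃ d, c d v₀ = t := by
    intro t ht
    obtain ⟨d, hd, hde⟩ := hT.stab_trans hy hv hv1 (Additive.toMul t).2 (fun h => ht (hext h))
    exact ⟨⟨d, hd⟩, hext hde⟩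
  have heval : ∀ f g : R, (f : AddMonoid.End _) v₀ = (g : AddMonoid.End _) v₀ → f = g := by
    intro f g h
    refine Subtype.ext (AddMonoidHom.ext fun t => ?_)
    by_cases ht : t = 0
    · subst ht
      exact (map_zero f.1).trans (map_zero g.1).symm
    obtain ⟨d, rfl⟩ := htrans t ht
    have hf : (f : AddMonoid.End _) (c d v₀) = c d ((f : AddMonoid.End _) v₀) :=
      (DFunLike.congr_fun (Subring.mem_centralizer_iff.mp f.2 (c d) ⟨d, rfl⟩) v₀).symm
    have hg : (g : AddMonoid.End _) (c d v₀) = c d ((g : AddMonoid.End _) v₀) :=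
      (DFunLike.congr_fun (Subring.mem_centralizer_iff.mp g.2 (c d) ⟨d, rfl⟩) v₀).symm
    exact hf.trans ((congrArg (c d) h).trans hg.symm)
  have hv00 : v₀ ≠ 0 := fun h => hv1 (congrArg val h)
  have hcase : ∀ f : R, f ≠ 0 → ∃ d, f = ⟨c d, hcR d⟩ := by
    intro f hf
    obtain ⟨d, hd⟩ := htrans ((f : AddMonoid.End _) v₀) (fun h => hf (heval f 0 (by rw [h]; rfl)))
    exact ⟨d, heval _ _ hd.symm⟩
  have hfield : IsField R := by
    refine ⟨⟨0, 1, fun h => hv00 ?_⟩, fun a b => ?_, fun {a} ha => ?_⟩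
    · exact (DFunLike.congr_fun (congrArg Subtype.val h) v₀).symm
    · by_cases ha : a = 0
      · rw [ha, zero_mul, mul_zero]
      obtain ⟨d, rfl⟩ := hcase a ha
      exact Subtype.ext ((Subring.mem_centralizer_iff.mp b.2 (c d) ⟨d, rfl⟩))
    · obtain ⟨d, rfl⟩ := hcase a ha
      refine ⟨⟨c d⁻¹, hcR _⟩, Subtype.ext (AddMonoidHom.ext fun t => hext ?_)⟩
      show val (c d (c d⁻¹ t)) = val t
      rw [capply, capply, Subgroup.coe_inv]
      group
  letI : Field R := hfield.toField
  let ev : R → Additive (T : Subgroup G) := fun f => (f : AddMonoid.End _) v₀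
  have hev : Function.Bijective ev := by
    refine ⟨fun f g h => heval f g h, fun t => ?_⟩
    by_cases ht : t = 0
    · exact ⟨0, ht.symm⟩
    · obtain ⟨d, hd⟩ := htrans t ht
      exact ⟨⟨c d, hcR d⟩, hd⟩
  obtain ⟨k, hk⟩ := IsPGroup.iff_card.mp T.2
  have hk0 : k ≠ 0 := by
    rintro rfl
    have := hT.four_le
    rw [hk] at this
    simp at this
  haveI : Finite R := Finite.of_injective ev hev.1
  haveI : Fintype R := Fintype.ofFinite R
  haveI : Fintype (GaloisField 2 k) := Fintype.ofFinite _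
  have hR : Nat.card R = 2 ^ k := by
    rw [Nat.card_congr ((Equiv.ofBijective ev hev).trans Additive.toMul), hk]
  have hF : Nat.card (GaloisField 2 k) = 2 ^ k := GaloisField.card 2 k hk0
  let e : GaloisField 2 k ≃+* R := FiniteField.ringEquivOfCardEq
    (by rw [← Nat.card_eq_fintype_card, ← Nat.card_eq_fintype_card, hF, hR])
  refine ⟨k, fun a => (Additive.toMul (ev (e a)) : (T : Subgroup G)).1, hF.trans hk.symm, ?_, ?_, ?_,
    ?_, ?_, ?_⟩
  · simp only [map_one]; rfl
  · exact fun a => (Additive.toMul (ev (e a))).2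
  · exact fun a b h => e.injective (hev.1 (hext h))
  · intro t ht
    obtain ⟨r, hr⟩ := hev.2 (Additive.ofMul ⟨t, ht⟩)
    exact ⟨e.symm r, by simp [hr]⟩
  · intro a b
    simp only [map_add]; rfl
  · intro a ha
    obtain ⟨d, hd⟩ := hcase (e a) (by simpa using ha)
    refine ⟨d, d.2, fun x => ?_⟩
    simp only [map_mul, hd]
    exact capply d (ev (e x))

end Cfsg.Agent.Invol.ElemCase
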