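import Cfsg.Agent.S0111
import Cfsg.Agent.Lib.Involutions.Dihedral
import Cfsg.Agent.Lib.Blocks.Misc
import Cfsg.Agent.Lib.Char.Complete
import Mathlib.GroupTheory.SpecificGroups.Dihedral

/-!
Finite groups without subgroups of index two having an involution with dihedral centralizer of
order eight: they have order 168 or 360 and are simple.
-/

set_option linter.style.haveILetI false
set_option linter.unusedSectionVars false

namespace Cfsg.Agent.CentD8

open Cfsg

/-- All involutions are conjugate and have dihedral centralizers of order eight. -/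
structure Setup (G : Type*) [Group G] : Prop where
  exists_invol : ∃ t : G, orderOf t = 2
  equiv : ∀ w : G, orderOf w = 2 →
    Nonempty (↥(Subgroup.centralizer ({w} : Set G)) ≃* DihedralGroup 4)
  conj : ∀ u v : G, orderOf u = 2 → orderOf v = 2 → IsConj u v

theorem d8_central : ∀ c : DihedralGroup 4, c * c = 1 → c ≠ 1 → (∀ x, c * x = x * c) →
    c = DihedralGroup.r 2 := by decide

theorem d8_pow_four : ∀ c : DihedralGroup 4, c * c * (c * c) = 1 := by decide

theorem d8_four_conj : ∀ a b : DihedralGroup 4, a * a ≠ 1 → b * b ≠ 1 → ∃ x, x * a * x⁻¹ = b := by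
  decide

theorem d8_card_comm : ∀ a : DihedralGroup 4, a * a ≠ 1 →
    (Finset.univ.filter fun x => x * a = a * x).card = 4 := by decide

theorem d8_pow_four' : ∀ c : DihedralGroup 4, c ^ 4 = 1 := by decide

theorem d8_invol : (Finset.univ.filter fun x : DihedralGroup 4 =>
    x * x = 1 ∧ x ≠ 1 ∧ x ≠ DihedralGroup.r 2).card = 4 := by decide

theorem d8_noncomm : ∀ t : DihedralGroup 4, t * t = 1 → t ≠ 1 → t ≠ DihedralGroup.r 2 →
    (Finset.univ.filter fun b => b * b = 1 ∧ t * b * (t * b) ≠ 1).card = 2 := by decide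

theorem d8_sq : ∀ t : DihedralGroup 4, t * t ≠ 1 → t * t = DihedralGroup.r 2 := by decide

variable {G : Type*} [Group G] [Finite G]

/-- An involution central in an isomorphic copy of the dihedral group is the central rotation. -/
theorem map_self {w : G} (hw : orderOf w = 2)
    (e : ↥(Subgroup.centralizer ({w} : Set G)) ≃* DihedralGroup 4) :
    e ⟨w, Subgroup.mem_centralizer_singleton_iff.2 rfl⟩ = DihedralGroup.r 2 := by
  refine d8_central _ ?_ ?_ fun x => ?_
  · rw [← map_mul, EmbeddingLike.map_eq_one_iff]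
    exact Subtype.ext (Invol.mul_self hw)
  · rw [Ne, EmbeddingLike.map_eq_one_iff]
    exact fun h => Invol.ne_one hw (congrArg Subtype.val h)
  · obtain ⟨y, rfl⟩ := e.surjective x
    rw [← map_mul, ← map_mul]
    exact congrArg e (Subtype.ext (Subgroup.mem_centralizer_singleton_iff.1 y.2).symm)

open Pointwise in
/-- The hypotheses from one involution in a group without subgroups of index two. -/
theorem Setup.of_centralizer (t : G) (ht : orderOf t = 2)
    (e : ↥(Subgroup.centralizer ({t} : Set G)) ≃* DihedralGroup 4)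
    (hno : ∀ H : Subgroup G, H.index ≠ 2) : Setup G := by
  haveI : Fact (Nat.Prime 2) := ⟨Nat.prime_two⟩
  classical
  set C := Subgroup.centralizer ({t} : Set G) with hC
  let tC : C := ⟨t, Subgroup.mem_centralizer_singleton_iff.2 rfl⟩
  have het : e tC = DihedralGroup.r 2 := map_self ht e
  have hC8 : Nat.card C = 8 := by rw [Nat.card_congr e.toEquiv, DihedralGroup.nat_card]
  obtain ⟨S, hCS⟩ := (IsPGroup.of_card (n := 3) (by rw [hC8]; norm_num) : IsPGroup 2 C).exists_le_sylow
  have hSC : (S : Subgroup G) = C := by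
    by_contra hne
    have hlt : C < (S : Subgroup G) := lt_of_le_of_ne hCS (Ne.symm hne)
    haveI : Group.IsNilpotent (S : Subgroup G) := S.2.isNilpotent
    have htop : C.subgroupOf (S : Subgroup G) < ⊤ :=
      lt_top_iff_ne_top.2 fun h => hlt.not_ge (Subgroup.subgroupOf_eq_top.1 h)
    obtain ⟨⟨s, hs⟩, hsN, hsC⟩ := SetLike.exists_of_lt
      (Group.normalizerCondition_of_isNilpotent (G := (S : Subgroup G)) _ htop)
    have hconj : ∀ c ∈ C, s * c * s⁻¹ ∈ C := fun c hc => by
      simpa [Subgroup.mem_subgroupOf] using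
        (Subgroup.mem_normalizer_iff.1 hsN ⟨c, hCS hc⟩).1 (Subgroup.mem_subgroupOf.2 hc)
    have hbij : ∀ y : C, ∃ x : C, s * (x : G) * s⁻¹ = y := by
      intro y
      let f : C → C := fun x => ⟨s * (x : G) * s⁻¹, hconj x x.2⟩
      have hf : Function.Injective f := fun a b h => Subtype.ext (by
        have h' : s * (a : G) * s⁻¹ = s * (b : G) * s⁻¹ := congrArg Subtype.val h
        exact mul_left_cancel (mul_right_cancel h'))
      obtain ⟨x, hx⟩ := (Finite.injective_iff_surjective.1 hf) y
      exact ⟨x, congrArg Subtype.val hx⟩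
    have h2 := d8_central (e ⟨s * t * s⁻¹, hconj t (Subgroup.mem_centralizer_singleton_iff.2 rfl)⟩)
      (by rw [← map_mul, EmbeddingLike.map_eq_one_iff]
          exact Subtype.ext (by
            show s * t * s⁻¹ * (s * t * s⁻¹) = 1
            rw [show s * t * s⁻¹ * (s * t * s⁻¹) = s * (t * t) * s⁻¹ by group, Invol.mul_self ht]
            group))
      (by rw [Ne, EmbeddingLike.map_eq_one_iff]
          exact fun h => Invol.ne_one ht (conj_eq_one_iff.1 (congrArg Subtype.val h)))
      (fun x => by
        obtain ⟨y, rfl⟩ := e.surjective x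
        obtain ⟨z, hz⟩ := hbij y
        rw [← map_mul, ← map_mul]
        refine congrArg e (Subtype.ext ?_)
        show s * t * s⁻¹ * (y : G) = (y : G) * (s * t * s⁻¹)
        rw [← hz]
        calc s * t * s⁻¹ * (s * (z : G) * s⁻¹) = s * (t * z) * s⁻¹ := by group
          _ = s * ((z : G) * t) * s⁻¹ := by rw [Subgroup.mem_centralizer_singleton_iff.1 z.2]
          _ = _ := by group)
    rw [← het] at h2
    have h3 : s * t * s⁻¹ = t := congrArg Subtype.val (e.injective h2)
    exact hsC (Subgroup.mem_subgroupOf.2 (Subgroup.mem_centralizer_singleton_iff.2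
      (mul_inv_eq_iff_eq_mul.1 h3)))
  set Q : Subgroup G := ((Subgroup.zpowers (DihedralGroup.r 1 : DihedralGroup 4)).comap
    e.toMonoidHom).map C.subtype with hQ
  have hQC : Q ≤ C := Subgroup.map_subtype_le _
  have hQrot : ∀ c : C, (c : G) ∈ Q → c * c = 1 → c = 1 ∨ c = tC := by
    intro c hc hc2
    obtain ⟨c', hc', hcc⟩ := hc
    obtain rfl : c' = c := Subtype.ext hcc
    obtain ⟨k, hk⟩ := Subgroup.mem_zpowers_iff.1 (Subgroup.mem_comap.1 hc')
    have hall : ∀ i : ZMod 4, (DihedralGroup.r i : DihedralGroup 4) * DihedralGroup.r i = 1 →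
        (DihedralGroup.r i : DihedralGroup 4) = 1 ∨ (DihedralGroup.r i : DihedralGroup 4) = DihedralGroup.r 2 := by
      decide
    rw [DihedralGroup.r_one_zpow] at hk
    have he : e c' = DihedralGroup.r (k : ZMod 4) := hk.symm
    rcases hall (k : ZMod 4) (by rw [← he, ← map_mul, hc2, map_one]) with h | h
    · left; rwa [← he, EmbeddingLike.map_eq_one_iff] at h
    · right; rw [← he, ← het] at h; exact e.injective h
  have hQrel : Q.relIndex (S : Subgroup G) = 2 := by
    have h4 : Nat.card Q = 4 := by
      rw [hQ, Subgroup.card_map_of_injective C.subtype_injective,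
        Subgroup.comap_equiv_eq_map_symm' e, Subgroup.card_map_of_injective e.symm.injective,
        Nat.card_zpowers, DihedralGroup.orderOf_r_one]
    have h := Subgroup.card_mul_index (Q.subgroupOf (S : Subgroup G))
    rw [Nat.card_congr (Subgroup.subgroupOfEquivOfLe (hQC.trans hSC.ge)).toEquiv, h4,
      show Nat.card (S : Subgroup G) = 8 by rw [hSC]; exact hC8] at h
    show (Q.subgroupOf (S : Subgroup G)).index = 2
    omega
  have hone : ∀ u : G, orderOf u = 2 → IsConj t u := by
    intro u hu
    obtain ⟨R, hR⟩ := (IsPGroup.of_card (n := 1) (by rw [Nat.card_zpowers, hu, pow_one]) :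
      IsPGroup 2 (Subgroup.zpowers u)).exists_le_sylow
    obtain ⟨g, hg⟩ := MulAction.exists_smul_eq G R S
    have hguS : g * u * g⁻¹ ∈ (S : Subgroup G) := by
      rw [← hg, Sylow.coe_subgroup_smul]
      exact Subgroup.smul_mem_pointwise_smul u (MulAut.conj g) _ (hR (Subgroup.mem_zpowers u))
    have hgu : orderOf (g * u * g⁻¹) = 2 := by rw [Invol.order_conj, hu]
    have hfin : ∀ v ∈ Q, orderOf v = 2 → v = t := by
      intro v hv hvo
      rcases hQrot ⟨v, hQC hv⟩ hv (Subtype.ext (Invol.mul_self hvo)) with h | h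
      · exact absurd (congrArg Subtype.val h) (Invol.ne_one hvo)
      · exact congrArg Subtype.val h
    by_cases hmem : g * u * g⁻¹ ∈ Q
    · exact (isConj_iff.2 ⟨g, hfin _ hmem hgu⟩ : IsConj u t).symm
    · rcases S0111.result S Q (hQC.trans hSC.ge) hQrel _ hgu hguS hmem with ⟨N, -, hN, -⟩ | ⟨h, hh⟩
      · exact absurd hN (hno N)
      · have := hfin _ hh (by rw [Invol.order_conj, hgu])
        exact (isConj_iff.2 ⟨h * g, by rw [← this]; group⟩ : IsConj u t).symm
  refine ⟨⟨t, ht⟩, fun w hw => ?_, fun u v hu hv => (hone u hu).symm.trans (hone v hv)⟩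
  obtain ⟨g, rfl⟩ := isConj_iff.1 (hone w hw)
  have hmap : Subgroup.centralizer ({g * t * g⁻¹} : Set G) = C.map (MulAut.conj g).toMonoidHom := by
    ext y
    rw [Subgroup.mem_map_equiv, MulAut.conj_symm_apply, Subgroup.mem_centralizer_singleton_iff,
      Subgroup.mem_centralizer_singleton_iff]
    constructor <;> intro h
    · calc g⁻¹ * y * g * t = g⁻¹ * (y * (g * t * g⁻¹)) * g := by group
        _ = g⁻¹ * (g * t * g⁻¹ * y) * g := by rw [h]
        _ = t * (g⁻¹ * y * g) := by group
    · calc y * (g * t * g⁻¹) = g * (g⁻¹ * y * g * t) * g⁻¹ := by group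
        _ = g * (t * (g⁻¹ * y * g)) * g⁻¹ := by rw [h]
        _ = g * t * g⁻¹ * y := by group
  exact ⟨(MulEquiv.subgroupCongr hmap).trans
    ((C.equivMapOfInjective _ (MulAut.conj g).injective).symm.trans e)⟩

variable (hS : Setup G)
include hS

theorem card_centralizer {w : G} (hw : orderOf w = 2) :
    Nat.card ↥(Subgroup.centralizer ({w} : Set G)) = 8 := by
  obtain ⟨e⟩ := hS.equiv w hw
  rw [Nat.card_congr e.toEquiv, DihedralGroup.nat_card]

/-- Elements of even order have order two or four. -/
theorem orderOf_even {g : G} (hg : 2 ∣ orderOf g) : orderOf g = 2 ∨ orderOf g = 4 := by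
  have hu : orderOf (g ^ (orderOf g / 2)) = 2 :=
    orderOf_pow_orderOf_div (orderOf_pos g).ne' hg
  obtain ⟨e⟩ := hS.equiv _ hu
  let gC : ↥(Subgroup.centralizer ({g ^ (orderOf g / 2)} : Set G)) :=
    ⟨g, Subgroup.mem_centralizer_singleton_iff.2 ((Commute.refl g).pow_right _).eq⟩
  have h4 : gC ^ 4 = 1 := by
    apply e.injective
    rw [map_pow, map_one]
    exact d8_pow_four' _
  have hdvd : orderOf g ∣ 2 ^ 2 := by
    refine orderOf_dvd_of_pow_eq_one ?_
    simpa [gC] using congrArg Subtype.val h4
  obtain ⟨i, hi, hi'⟩ := (Nat.dvd_prime_pow Nat.prime_two).1 hdvd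
  interval_cases i
  · rw [hi'] at hg; norm_num at hg
  · exact Or.inl (by simpa using hi')
  · exact Or.inr (by simpa using hi')

theorem sq_invol {g : G} (hg : orderOf g = 4) : orderOf (g * g) = 2 := by
  rw [← pow_two, orderOf_pow_of_dvd two_ne_zero (by rw [hg]; norm_num), hg]

/-- The elements of order four are conjugate. -/
theorem conj_four {a b : G} (ha : orderOf a = 4) (hb : orderOf b = 4) : IsConj a b := by
  obtain ⟨c, hc⟩ := isConj_iff.1 (hS.conj _ _ (sq_invol hS ha) (sq_invol hS hb))
  obtain ⟨e⟩ := hS.equiv _ (sq_invol hS hb)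
  have hA : c * a * c⁻¹ * (c * a * c⁻¹) = b * b := by rw [← hc]; group
  have hmem : ∀ z : G, z * z = b * b → z ∈ Subgroup.centralizer ({b * b} : Set G) := fun z hz =>
    Subgroup.mem_centralizer_singleton_iff.2 (by rw [← hz, mul_assoc])
  have hne : ∀ {z : G} (hz : z * z = b * b), e ⟨z, hmem z hz⟩ * e ⟨z, hmem z hz⟩ ≠ 1 := by
    intro z hz h
    rw [← map_mul, EmbeddingLike.map_eq_one_iff] at h
    exact Invol.ne_one (sq_invol hS hb) (hz ▸ congrArg Subtype.val h)
  obtain ⟨x, hx⟩ := d8_four_conj _ _ (hne hA) (hne (z := b) rfl)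
  obtain ⟨y, rfl⟩ := e.surjective x
  rw [← map_inv, ← map_mul, ← map_mul] at hx
  refine isConj_iff.2 ⟨(y : G) * c, ?_⟩
  rw [show (y : G) * c * a * ((y : G) * c)⁻¹ = y * (c * a * c⁻¹) * (y : G)⁻¹ by group]
  exact congrArg Subtype.val (e.injective hx)

theorem card_centralizer_four {a : G} (ha : orderOf a = 4) :
    Nat.card ↥(Subgroup.centralizer ({a} : Set G)) = 4 := by
  classical
  obtain ⟨e⟩ := hS.equiv _ (sq_invol hS ha)
  let aC : ↥(Subgroup.centralizer ({a * a} : Set G)) :=
    ⟨a, Subgroup.mem_centralizer_singleton_iff.2 (by rw [mul_assoc])⟩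
  have h := d8_card_comm (e aC) (by
    rw [← map_mul, Ne, EmbeddingLike.map_eq_one_iff]
    exact fun h => Invol.ne_one (sq_invol hS ha) (congrArg Subtype.val h))
  rw [← h, ← Fintype.card_subtype, ← Nat.card_eq_fintype_card]
  have hle : ∀ y ∈ Subgroup.centralizer ({a} : Set G), y ∈ Subgroup.centralizer ({a * a} : Set G) :=
    fun y hy => Subgroup.mem_centralizer_singleton_iff.2
      ((show Commute y a from Subgroup.mem_centralizer_singleton_iff.1 hy).mul_right
        (Subgroup.mem_centralizer_singleton_iff.1 hy)).eq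
  refine Nat.card_congr
    { toFun := fun y => ⟨e ⟨y.1, hle y.1 y.2⟩, by
        rw [← map_mul, ← map_mul]
        exact congrArg e (Subtype.ext (Subgroup.mem_centralizer_singleton_iff.1 y.2))⟩
      invFun := fun x => ⟨(e.symm x.1 : G), Subgroup.mem_centralizer_singleton_iff.2 (by
        have h := congrArg e.symm x.2
        simp only [map_mul, MulEquiv.symm_apply_apply] at h
        exact congrArg Subtype.val h)⟩
      left_inv := fun y => Subtype.ext (by simp)
      right_inv := fun x => Subtype.ext (by simp) }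

/-- Count for the first kind: involutions with involutory product. -/
theorem card_comm {t : G} (ht : orderOf t = 2) :
    Nat.card {b : G // orderOf b = 2 ∧ orderOf (t * b) = 2} = 4 := by
  classical
  obtain ⟨e⟩ := hS.equiv t ht
  rw [← d8_invol, ← Fintype.card_subtype, ← Nat.card_eq_fintype_card]
  have het := map_self ht e
  have hcm : ∀ b : G, orderOf b = 2 → orderOf (t * b) = 2 → b * t = t * b := fun b hb htb => by
    have h1 := Invol.inv_self htb
    rwa [mul_inv_rev, Invol.inv_self ht, Invol.inv_self hb] at h1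
  refine Nat.card_congr
    { toFun := fun b => ⟨e ⟨b.1, Subgroup.mem_centralizer_singleton_iff.2 (hcm b.1 b.2.1 b.2.2)⟩, by
        refine ⟨?_, ?_, ?_⟩
        · rw [← map_mul, EmbeddingLike.map_eq_one_iff]
          exact Subtype.ext (Invol.mul_self b.2.1)
        · rw [Ne, EmbeddingLike.map_eq_one_iff]
          exact fun h => Invol.ne_one b.2.1 (congrArg Subtype.val h)
        · rw [← het, Ne, EmbeddingLike.apply_eq_iff_eq]
          intro h
          have hbt : b.1 = t := congrArg Subtype.val h
          exact Invol.ne_one b.2.2 (by rw [hbt, Invol.mul_self ht])⟩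
      invFun := fun x => ⟨(e.symm x.1 : G), by
        have h1 : e.symm x.1 * e.symm x.1 = 1 := by rw [← map_mul, x.2.1, map_one]
        have h1' : (e.symm x.1 : G) * (e.symm x.1 : G) = 1 := congrArg Subtype.val h1
        have h2 : (e.symm x.1 : G) ≠ 1 := fun h => x.2.2.1
          (e.symm.injective (by rw [map_one]; exact Subtype.ext h))
        have h3 : (e.symm x.1 : G) ≠ t := fun h => x.2.2.2
          (((e.symm_apply_eq).1 (Subtype.ext h)).trans het)
        have hb := Invol.order_two_of_sq h1' h2
        refine ⟨hb, Invol.order_two_of_sq ?_ ?_⟩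
        · have hc : Commute (e.symm x.1 : G) t :=
            Subgroup.mem_centralizer_singleton_iff.1 (e.symm x.1).2
          rw [hc.mul_mul_mul_comm, Invol.mul_self ht, h1', one_mul]
        · intro h
          rw [mul_eq_one_iff_eq_inv, Invol.inv_self hb] at h
          exact h3 h.symm⟩
      left_inv := fun b => Subtype.ext (by simp)
      right_inv := fun x => Subtype.ext (by simp) }

/-- Count for the second kind: involutions with product of order four. -/
theorem card_four {t : G} (ht : orderOf t = 2) :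
    Nat.card {b : G // orderOf b = 2 ∧ orderOf (t * b) = 4} = 8 := by
  classical
  haveI := Fintype.ofFinite G
  let W : Finset G := Finset.univ.filter fun w => orderOf w = 2 ∧ orderOf (t * w) = 2
  have hW : W.card = 4 := by
    rw [← card_comm hS ht, Nat.card_eq_fintype_card, Fintype.card_subtype]
  have hcm : ∀ b : G, orderOf b = 2 → orderOf (t * b) = 2 → b * t = t * b := fun b hb htb => by
    have h1 := Invol.inv_self htb
    rwa [mul_inv_rev, Invol.inv_self ht, Invol.inv_self hb] at h1
  rw [Nat.card_eq_fintype_card, Fintype.card_subtype,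
    Finset.card_eq_sum_card_fiberwise (f := fun b => t * b * (t * b)) (t := W) (fun b hb => ?_)]
  · rw [Finset.sum_congr rfl (g := fun _ => 2) (fun w hw => ?_), Finset.sum_const, smul_eq_mul, hW]
    simp only [W, Finset.mem_filter, Finset.mem_univ, true_and] at hw
    obtain ⟨hw, htw⟩ := hw
    obtain ⟨e⟩ := hS.equiv w hw
    have hew := map_self hw e
    let tC : ↥(Subgroup.centralizer ({w} : Set G)) :=
      ⟨t, Subgroup.mem_centralizer_singleton_iff.2 (hcm w hw htw).symm⟩
    have h1 : e tC * e tC = 1 := by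
      rw [← map_mul, EmbeddingLike.map_eq_one_iff]
      exact Subtype.ext (Invol.mul_self ht)
    have h2 : e tC ≠ 1 := by
      rw [Ne, EmbeddingLike.map_eq_one_iff]
      exact fun h => Invol.ne_one ht (congrArg Subtype.val h)
    have h3 : e tC ≠ DihedralGroup.r 2 := by
      rw [← hew, Ne, EmbeddingLike.apply_eq_iff_eq]
      intro h
      have h' : t = w := congrArg Subtype.val h
      exact Invol.ne_one htw (by rw [← h', Invol.mul_self ht])
    refine Eq.trans ?_ (d8_noncomm (e tC) h1 h2 h3)
    rw [Finset.filter_filter, ← Fintype.card_subtype,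
      ← Fintype.card_subtype, ← Nat.card_eq_fintype_card, ← Nat.card_eq_fintype_card]
    have hbw : ∀ b : G, orderOf b = 2 → t * b * (t * b) = w → b * w = w * b := by
      intro b hb h
      have hwi : w⁻¹ = b * t * (b * t) := by
        rw [← h]; simp only [mul_inv_rev, Invol.inv_self ht, Invol.inv_self hb]
      rw [Invol.inv_self hw] at hwi
      calc b * w = b * (t * b * (t * b)) := by rw [h]
        _ = b * t * (b * t) * b := by group
        _ = w * b := by rw [← hwi]
    refine Nat.card_congr
      { toFun := fun b => ⟨e ⟨b.1, Subgroup.mem_centralizer_singleton_iff.2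
            (hbw b.1 b.2.1.1 b.2.2)⟩, by
          refine ⟨?_, ?_⟩
          · rw [← map_mul, EmbeddingLike.map_eq_one_iff]
            exact Subtype.ext (Invol.mul_self b.2.1.1)
          · rw [← map_mul, ← map_mul, Ne, EmbeddingLike.map_eq_one_iff]
            intro h
            have h' : t * b.1 * (t * b.1) = 1 := congrArg Subtype.val h
            exact Invol.ne_one hw (b.2.2.symm.trans h')⟩
        invFun := fun x => ⟨(e.symm x.1 : G), by
          have hb1 : e.symm x.1 * e.symm x.1 = 1 := by rw [← map_mul, x.2.1, map_one]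
          have hb1' : (e.symm x.1 : G) * (e.symm x.1 : G) = 1 := congrArg Subtype.val hb1
          have hne : tC * e.symm x.1 * (tC * e.symm x.1) ≠ 1 := fun h => x.2.2 (by
            have := congrArg e h
            simpa using this)
          have hb : orderOf (e.symm x.1 : G) = 2 := Invol.order_two_of_sq hb1' (fun h => hne (by
            have h' : e.symm x.1 = 1 := Subtype.ext h
            rw [h', mul_one]
            exact Subtype.ext (Invol.mul_self ht)))
          have hsq : t * (e.symm x.1 : G) * (t * (e.symm x.1 : G)) = w := by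
            have hr : e (tC * e.symm x.1 * (tC * e.symm x.1)) = DihedralGroup.r 2 := by
              rw [map_mul]
              exact d8_sq _ (by rw [← map_mul, Ne, EmbeddingLike.map_eq_one_iff]; exact hne)
            rw [← hew] at hr
            exact congrArg Subtype.val (e.injective hr)
          refine ⟨⟨hb, ?_⟩, hsq⟩
          refine orderOf_eq_prime_pow (p := 2) (n := 1) (fun h => ?_) ?_
          · rw [pow_one, pow_two] at h
            exact Invol.ne_one hw (hsq.symm.trans h)
          · show (t * (e.symm x.1 : G)) ^ (2 ^ (1 + 1)) = 1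
            rw [show 2 ^ (1 + 1) = 2 * 2 from rfl, pow_mul, pow_two (t * _), hsq, pow_two,
              Invol.mul_self hw]⟩
        left_inv := fun b => Subtype.ext (by simp)
        right_inv := fun x => Subtype.ext (by simp) }
  · simp only [Finset.mem_coe, Finset.mem_filter, Finset.mem_univ, true_and] at hb
    simp only [W, Finset.mem_coe, Finset.mem_filter, Finset.mem_univ, true_and]
    have hw := sq_invol hS hb.2
    refine ⟨hw, ?_⟩
    have hev : Even (orderOf (t * b)) := by rw [hb.2]; norm_num
    have hc := (Invol.half_commute ht hb.1 hev).1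
    rw [hb.2, show 4 / 2 = 2 by norm_num, pow_two] at hc
    refine Invol.order_two_of_sq ?_ fun h => ?_
    · rw [hc.mul_mul_mul_comm, Invol.mul_self ht, Invol.mul_self hw, one_mul]
    · have h' : t = t * b * (t * b) := by
        rw [mul_eq_one_iff_eq_inv, Invol.inv_self hw] at h; exact h
      refine Invol.not_mem_zpowers ht hb.1 (fun e => ?_) ?_
      · subst e
        rw [Invol.mul_self ht, orderOf_one] at hb
        omega
      · have hm : (t * b) ^ 2 ∈ Subgroup.zpowers (t * b) := Subgroup.npow_mem_zpowers _ _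
        rw [pow_two] at hm
        exact Eq.subst (motive := fun z => z ∈ Subgroup.zpowers (t * b)) h'.symm hm

/-! ## Characters -/

section Char

open Cfsg.Agent.Char Cfsg.Agent.Blocks
open scoped ComplexConjugate

variable [Fintype G]

theorem sum_four_roots (L : Multiset ℂ) (hL : ∀ z ∈ L, z ^ 4 = 1) :
    ∃ a b n : ℤ, L.sum = a + b * Complex.I ∧ (L.map fun z => z ^ 2).sum = (n : ℂ) ∧
      (2 : ℤ) ∣ n - a - b := by
  induction L using Multiset.induction with
  | empty => exact ⟨0, 0, 0, by simp, by simp, by simp⟩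
  | cons z L ih =>
    obtain ⟨a, b, n, h1, h2, h3⟩ := ih fun w hw => hL w (Multiset.mem_cons_of_mem hw)
    have hz := hL z (Multiset.mem_cons_self z L)
    have hfac : (z - 1) * (z + 1) * ((z - Complex.I) * (z + Complex.I)) = 0 := by
      linear_combination hz - (z ^ 2 - 1) * Complex.I_sq
    simp only [mul_eq_zero, sub_eq_zero, add_eq_zero_iff_eq_neg] at hfac
    rcases hfac with (rfl | rfl) | (rfl | rfl)
    · exact ⟨a + 1, b, n + 1, by rw [Multiset.sum_cons, h1]; push_cast; ring,
        by rw [Multiset.map_cons, Multiset.sum_cons, h2]; push_cast; ring, by omega⟩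
    · exact ⟨a - 1, b, n + 1, by rw [Multiset.sum_cons, h1]; push_cast; ring,
        by rw [Multiset.map_cons, Multiset.sum_cons, h2]; push_cast; ring, by omega⟩
    · exact ⟨a, b + 1, n - 1, by rw [Multiset.sum_cons, h1]; push_cast; ring,
        by rw [Multiset.map_cons, Multiset.sum_cons, h2, Complex.I_sq]; push_cast; ring, by omega⟩
    · exact ⟨a, b - 1, n - 1, by rw [Multiset.sum_cons, h1]; push_cast; ring,
        by rw [Multiset.map_cons, Multiset.sum_cons, h2, neg_sq, Complex.I_sq]; push_cast; ring, by omega⟩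

/-- The values at the elements of order two and four. -/
theorem exists_values (χ : IrrCharacter G) {s : G} (hs : orderOf s = 4) :
    ∃ T S' : ℤ, (χ : G → ℂ) (s * s) = T ∧ (χ : G → ℂ) s = S' ∧ (2 : ℤ) ∣ T - S' ∧
      (8 : ℤ) ∣ (charDegree (χ : G → ℂ) : ℤ) + 5 * T + 2 * S' := by
  classical
  obtain ⟨T, hT, -⟩ := char_involution χ (sq_invol hS hs)
  obtain ⟨d, ρ, hρ, hρe⟩ := χ.2
  obtain ⟨L, -, h2, h3, -⟩ := exists_eigenvalues ρ s
  obtain ⟨a, b, n, ha, hn, hd⟩ := sum_four_roots hS L (fun z hz => by rw [← hs]; exact h2 z hz)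
  have hsv : (χ : G → ℂ) s = a + b * Complex.I := by
    rw [← ha, ← hρe, ← pow_one s, h3 1]; simp
  have hTv : (χ : G → ℂ) (s * s) = n := by rw [← hn, ← hρe, ← pow_two, h3 2]
  have hreal : conj ((χ : G → ℂ) s) = (χ : G → ℂ) s := by
    rw [← irr_inv]
    exact irr_isConj χ (conj_four hS (by rw [orderOf_inv, hs]) hs).symm
  have hb0 : b = 0 := by
    rw [hsv] at hreal
    have := congrArg Complex.im hreal
    simp at this
    exact_mod_cast (show (b : ℝ) = 0 by linarith)
  subst hb0
  have hsv' : (χ : G → ℂ) s = (a : ℂ) := by rw [hsv]; simp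
  have hTn : T = n := by exact_mod_cast (hT.symm.trans hTv)
  refine ⟨T, a, hT, hsv', by subst hTn; simpa using hd, ?_⟩
  -- the sum over the centralizer of the involution
  set C := Subgroup.centralizer ({s * s} : Set G) with hC
  obtain ⟨m, hm⟩ := exists_sum_subgroup_eq C χ
  obtain ⟨e⟩ := hS.equiv _ (sq_invol hS hs)
  rw [Fintype.sum_equiv e.toEquiv (fun x : C => (χ : G → ℂ) x)
    (fun y => (χ : G → ℂ) (e.symm y : C)) (fun x => by simp), card_centralizer hS (sq_invol hS hs)] at hm
  have hval : ∀ y : DihedralGroup 4, (χ : G → ℂ) (e.symm y : C) =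
      if y = 1 then (charDegree (χ : G → ℂ) : ℂ) else if y * y = 1 then (T : ℂ) else (a : ℂ) := by
    intro y
    split_ifs with h1 h2
    · rw [h1, map_one, OneMemClass.coe_one, irr_one_eq_charDegree]
    · rw [← hT]
      refine irr_isConj χ (hS.conj _ _ (sq_invol hS hs) (Invol.order_two_of_sq ?_ ?_))
      · exact congrArg Subtype.val (show e.symm y * e.symm y = 1 by rw [← map_mul, h2, map_one])
      · exact fun h => h1 (e.symm.injective (by rw [map_one]; exact Subtype.ext h))
    · rw [← hsv']
      refine irr_isConj χ (conj_four hS hs ?_)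
      refine orderOf_eq_prime_pow (p := 2) (n := 1) (fun h => h2 ?_) ?_
      · apply e.symm.injective
        rw [map_mul, map_one]
        rw [pow_one, pow_two] at h
        exact Subtype.ext h
      · have : e.symm y ^ 4 = 1 := by
          rw [← map_pow, d8_pow_four', map_one]
        exact congrArg Subtype.val this
  simp only [hval, Finset.sum_ite, Finset.sum_const, nsmul_eq_mul, Finset.filter_filter] at hm
  rw [show (Finset.univ.filter fun y : DihedralGroup 4 => y = 1).card = 1 by decide,
    show (Finset.univ.filter fun y : DihedralGroup 4 => ¬ y = 1 ∧ y * y = 1).card = 5 by decide,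
    show (Finset.univ.filter fun y : DihedralGroup 4 => ¬ y = 1 ∧ ¬ y * y = 1).card = 2 by decide] at hm
  refine ⟨m, ?_⟩
  have h : ((charDegree (χ : G → ℂ) : ℤ) : ℂ) + 5 * T + 2 * a = 8 * (m : ℤ) := by
    push_cast at hm ⊢
    linear_combination hm
  exact_mod_cast h

/-- The order is `168` or `360`. -/
theorem card_eq : Nat.card G = 168 ∨ Nat.card G = 360 := by
  classical
  obtain ⟨t, ht⟩ := hS.exists_invol
  obtain ⟨s, hs, hst⟩ : ∃ s : G, orderOf s = 4 ∧ s * s = t := by
    obtain ⟨e⟩ := hS.equiv t ht
    refine ⟨(e.symm (DihedralGroup.r 1) : G), ?_, ?_⟩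
    · rw [Subgroup.orderOf_coe, MulEquiv.orderOf_eq, DihedralGroup.orderOf_r_one]
    · have h : e.symm (DihedralGroup.r 1) * e.symm (DihedralGroup.r 1) =
          ⟨t, Subgroup.mem_centralizer_singleton_iff.2 rfl⟩ := by
        rw [← map_mul, MulEquiv.symm_apply_eq, map_self ht e]
        decide
      exact congrArg Subtype.val h
  choose T S' hT hS' hpar hmod using fun χ : IrrCharacter G => exists_values hS χ hs
  simp only [hst] at hT
  have hnc : ¬ IsConj s t := fun h => by
    obtain ⟨c, hc⟩ := isConj_iff.1 h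
    rw [← hc, Invol.order_conj, hs] at ht
    omega
  -- column orthogonality
  have hss : ∑ χ : IrrCharacter G, S' χ * S' χ = 4 := by
    have h := column_orth_of_isConj (IsConj.refl s)
    simp only [hS', map_intCast, card_centralizer_four hS hs] at h
    exact_mod_cast h
  have htt : ∑ χ : IrrCharacter G, T χ * T χ = 8 := by
    have h := column_orth_of_isConj (IsConj.refl t)
    simp only [hT, map_intCast, card_centralizer hS ht] at h
    exact_mod_cast h
  have hts : ∑ χ : IrrCharacter G, S' χ * T χ = 0 := by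
    have h := column_orth_of_not_isConj hnc
    simp only [hS', hT, map_intCast] at h
    exact_mod_cast h
  choose c hc using fun χ : IrrCharacter G =>
    (show (2 : ℤ) ∣ T χ + S' χ by have := hpar χ; omega)
  have hcc : ∑ χ : IrrCharacter G, c χ * c χ = 3 := by
    have h4 : ∑ χ : IrrCharacter G, 4 * (c χ * c χ) = 12 := by
      rw [Finset.sum_congr rfl (g := fun χ => T χ * T χ + 2 * (S' χ * T χ) + S' χ * S' χ)
        (fun χ _ => by linear_combination (-(2 * c χ + T χ + S' χ)) * hc χ),
        Finset.sum_add_distrib, Finset.sum_add_distrib, ← Finset.mul_sum, htt, hts, hss]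
      norm_num
    rw [← Finset.mul_sum] at h4
    omega
  have hsc : ∑ χ : IrrCharacter G, S' χ * c χ = 2 := by
    have h4 : ∑ χ : IrrCharacter G, 2 * (S' χ * c χ) = 4 := by
      rw [Finset.sum_congr rfl (g := fun χ => S' χ * T χ + S' χ * S' χ)
        (fun χ _ => by linear_combination (-(S' χ)) * hc χ), Finset.sum_add_distrib, hts, hss]
      norm_num
    rw [← Finset.mul_sum] at h4
    omega
  have hp : principal G ∈ (Finset.univ : Finset (IrrCharacter G)) := Finset.mem_univ _
  have hTp : T (principal G) = 1 := by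
    have h : ((T (principal G) : ℤ) : ℂ) = ((1 : ℤ) : ℂ) := by rw [← hT]; simp [principal]
    exact_mod_cast h
  have hSp : S' (principal G) = 1 := by
    have h : ((S' (principal G) : ℤ) : ℂ) = ((1 : ℤ) : ℂ) := by rw [← hS']; simp [principal]
    exact_mod_cast h
  have hcp : c (principal G) = 1 := by have := hc (principal G); omega
  set R := Finset.univ.erase (principal G) with hR
  have hRcc : ∑ χ ∈ R, c χ * c χ = 2 := by
    have := Finset.add_sum_erase _ (fun χ => c χ * c χ) hp
    rw [hcc, hcp] at this; linarith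
  have hRsc : ∑ χ ∈ R, S' χ * c χ = 1 := by
    have := Finset.add_sum_erase _ (fun χ => S' χ * c χ) hp
    rw [hsc, hcp, hSp] at this; linarith
  have hRss : ∑ χ ∈ R, S' χ * S' χ = 3 := by
    have := Finset.add_sum_erase _ (fun χ => S' χ * S' χ) hp
    rw [hss, hSp] at this; linarith
  set R' := R.filter (fun χ => c χ ≠ 0) with hR'
  have hsum' : ∑ χ ∈ R', c χ * c χ = 2 := by
    rw [← hRcc]
    refine Finset.sum_subset (Finset.filter_subset _ _) fun x hx hx' => ?_
    have : c x = 0 := by by_contra h; exact hx' (Finset.mem_filter.2 ⟨hx, h⟩)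
    rw [this, mul_zero]
  have hcb : ∀ χ ∈ R', c χ = 1 ∨ c χ = -1 := by
    intro χ hχ
    have hle : c χ * c χ ≤ 2 := hsum' ▸ Finset.single_le_sum (fun x _ => mul_self_nonneg (c x)) hχ
    have hne : c χ ≠ 0 := (Finset.mem_filter.1 hχ).2
    have h2 : -2 < c χ ∧ c χ < 2 := ⟨by nlinarith, by nlinarith⟩
    omega
  have hsb : ∀ χ ∈ R', -1 ≤ S' χ ∧ S' χ ≤ 1 := by
    intro χ hχ
    have hle : S' χ * S' χ ≤ 3 :=
      hRss ▸ Finset.single_le_sum (fun x _ => mul_self_nonneg (S' x)) (Finset.mem_filter.1 hχ).1
    exact ⟨by nlinarith, by nlinarith⟩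
  have hcard : R'.card = 2 := by
    have h1 : ∀ χ ∈ R', c χ * c χ = 1 := fun χ hχ => by
      rcases hcb χ hχ with e | e <;> rw [e] <;> norm_num
    rw [Finset.sum_congr rfl h1, Finset.sum_const, nsmul_eq_mul, mul_one] at hsum'
    exact_mod_cast hsum'
  obtain ⟨A, B, hAB, hset, hA1, hB0⟩ : ∃ A B : IrrCharacter G, A ≠ B ∧ R' = {A, B} ∧
      S' A = c A ∧ S' B = 0 := by
    obtain ⟨u, v, huv, he⟩ := Finset.card_eq_two.1 hcard
    have hsum : S' u * c u + S' v * c v = 1 := by
      rw [← hRsc, ← Finset.sum_pair (f := fun χ => S' χ * c χ) huv, ← he]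
      refine Finset.sum_subset (Finset.filter_subset _ _) fun x hx hx' => ?_
      have : c x = 0 := by by_contra h; exact hx' (Finset.mem_filter.2 ⟨hx, h⟩)
      rw [this, mul_zero]
    have hu := hsb u (by rw [he]; simp)
    have hv := hsb v (by rw [he]; simp)
    rcases hcb u (by rw [he]; simp) with e1 | e1 <;> rcases hcb v (by rw [he]; simp) with e2 | e2 <;>
      rw [e1, e2] at hsum <;>
      [by_cases h : S' v = 0; by_cases h : S' v = 0; by_cases h : S' v = 0; by_cases h : S' v = 0] <;>
      first
        | exact ⟨u, v, huv, he, by omega, h⟩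
        | exact ⟨v, u, huv.symm, by rw [he, Finset.pair_comm], by omega, by omega⟩
  have hout : ∀ χ, χ ∈ R → χ ≠ A → χ ≠ B → c χ = 0 := by
    intro χ h1 h2 h3
    by_contra h
    have hm : χ ∈ R' := Finset.mem_filter.2 ⟨h1, h⟩
    rw [hset] at hm
    simp [h2, h3] at hm
  have hAR : A ∈ R := (Finset.mem_filter.1 (hset ▸ Finset.mem_insert_self A _ : A ∈ R')).1
  have hBR : B ∈ R :=
    (Finset.mem_filter.1 (hset ▸ Finset.mem_insert_of_mem (Finset.mem_singleton_self B) : B ∈ R')).1
  have hAc := hcb A (by rw [hset]; simp)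
  have hBc := hcb B (by rw [hset]; simp)
  have hAT : T A = c A := by have := hc A; omega
  have hBT : T B = 2 * c B := by have := hc B; omega
  have hthree : ∀ f : IrrCharacter G → ℂ, ∑ χ : IrrCharacter G, (c χ : ℂ) * f χ =
      f (principal G) + c A * f A + c B * f B := by
    intro f
    rw [← Finset.add_sum_erase _ _ hp, hcp, Int.cast_one, one_mul,
      ← Finset.sum_subset (s₁ := {A, B}) (s₂ := R)]
    · rw [Finset.sum_pair hAB]; ring
    · intro x hx
      rcases Finset.mem_insert.1 hx with rfl | hx
      · exact hAR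
      · rw [Finset.mem_singleton.1 hx]; exact hBR
    · intro x hx hx'
      simp only [Finset.mem_insert, Finset.mem_singleton, not_or] at hx'
      rw [hout x hx hx'.1 hx'.2, Int.cast_zero, zero_mul]
  -- the class function `Σ c χ`
  have hF : ∀ g : G, ∑ χ : IrrCharacter G, (c χ : ℂ) * (χ : G → ℂ) g =
      if orderOf g = 2 then 4 else if orderOf g = 4 then 2 else 0 := by
    intro g
    have h2c : ∀ χ : IrrCharacter G, (c χ : ℂ) * (χ : G → ℂ) g =
        ((χ : G → ℂ) g * conj ((χ : G → ℂ) t) + (χ : G → ℂ) g * conj ((χ : G → ℂ) s)) / 2 := by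
      intro χ
      rw [hT, hS', map_intCast, map_intCast]
      have : (T χ : ℂ) + (S' χ : ℂ) = 2 * (c χ : ℂ) := by exact_mod_cast hc χ
      linear_combination (-(χ : G → ℂ) g / 2) * this
    rw [Finset.sum_congr rfl fun χ _ => h2c χ, ← Finset.sum_div, Finset.sum_add_distrib]
    split_ifs with h1 h2
    · rw [column_orth_of_isConj (hS.conj g t h1 ht), card_centralizer hS h1,
        column_orth_of_not_isConj (fun h => hnc (h.symm.trans (hS.conj g t h1 ht)))]
      norm_num
    · rw [column_orth_of_isConj (conj_four hS h2 hs), card_centralizer_four hS h2,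
        column_orth_of_not_isConj (fun h => hnc ((conj_four hS h2 hs).symm.trans h))]
      norm_num
    · rw [column_orth_of_not_isConj (fun h => h1 (by
          obtain ⟨x, hx⟩ := isConj_iff.1 h; rw [← hx, Invol.order_conj] at ht; exact ht)),
        column_orth_of_not_isConj (fun h => h2 (by
          obtain ⟨x, hx⟩ := isConj_iff.1 h; rw [← hx, Invol.order_conj] at hs; exact hs))]
      norm_num
  have hdeg : 1 + c A * (charDegree (A : G → ℂ) : ℤ) + c B * (charDegree (B : G → ℂ) : ℤ) = 0 := by
    have h := hF 1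
    rw [hthree, orderOf_one, if_neg (by norm_num), if_neg (by norm_num), irr_one_eq_charDegree A,
      irr_one_eq_charDegree B, show (principal G : G → ℂ) 1 = 1 from rfl] at h
    exact_mod_cast h
  -- the count
  set I : Finset G := Finset.univ.filter fun a => orderOf a = 2 with hI
  have hmemI : ∀ a, a ∈ I ↔ IsConj t a := by
    intro a
    simp only [hI, Finset.mem_filter, Finset.mem_univ, true_and]
    refine ⟨fun h => hS.conj t a ht h, fun h => ?_⟩
    obtain ⟨x, rfl⟩ := isConj_iff.1 h
    rw [Invol.order_conj, ht]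
  have hindex : I.card = (Subgroup.centralizer ({t} : Set G)).index := by
    rw [← card_isConj_eq_index, Nat.card_eq_fintype_card, Fintype.card_subtype]
    congr 1
    ext a
    simp [hmemI]
  have hleft : ∑ a ∈ I, ∑ b ∈ I, (if orderOf (a * b) = 2 then (4 : ℂ)
      else if orderOf (a * b) = 4 then 2 else 0) = (I.card : ℂ) * 32 := by
    rw [Finset.sum_congr rfl (g := fun _ => (32 : ℂ)) (fun a ha => ?_), Finset.sum_const, nsmul_eq_mul]
    have hao : orderOf a = 2 := (Finset.mem_filter.1 ha).2
    rw [Finset.sum_ite, Finset.sum_ite, Finset.sum_const_zero, add_zero, Finset.sum_const,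
      Finset.sum_const, Finset.filter_filter, hI, Finset.filter_filter, Finset.filter_filter]
    have e1 : (Finset.univ.filter fun b => orderOf b = 2 ∧ orderOf (a * b) = 2).card = 4 := by
      rw [← card_comm hS hao, Nat.card_eq_fintype_card, Fintype.card_subtype]
    have e2 : (Finset.univ.filter fun b => orderOf b = 2 ∧ (¬ orderOf (a * b) = 2 ∧ orderOf (a * b) = 4)).card = 8 := by
      rw [← card_four hS hao, Nat.card_eq_fintype_card, Fintype.card_subtype]
      congr 1
      ext b
      simp only [Finset.mem_filter, Finset.mem_univ, true_and]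
      omega
    rw [e1, e2]
    norm_num
  have hscal : ∀ χ : IrrCharacter G, ∑ a ∈ I, ∑ b ∈ I, (χ : G → ℂ) (a * b) =
      (χ : G → ℂ) 1 * ((I.card : ℂ) * (χ : G → ℂ) t / (χ : G → ℂ) 1) ^ 2 := by
    intro χ
    have hx : IsClassElt (classSum ℂ t) := isClassElt_classSum t
    have hsum : classSum ℂ t = ∑ a ∈ I, MonoidAlgebra.single a (1 : ℂ) := by
      refine gaExt fun y => ?_
      rw [coeff_classSum, MonoidAlgebra.coeff_sum, Finset.sum_apply']
      simp only [MonoidAlgebra.coeff_single, Finsupp.single_apply, Finset.sum_ite_eq', ← hmemI]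
    have hom : ∀ g : G, omega χ (MonoidAlgebra.single g (1 : ℂ)) = (χ : G → ℂ) g / (χ : G → ℂ) 1 := by
      intro g
      simp [omega, Finsupp.single_apply]
    have h2 := omega_mul χ hx hx
    rw [omega_classSum, centralChar, ← hindex] at h2
    rw [hsum, Finset.sum_mul, omega_sum] at h2
    simp only [Finset.mul_sum, omega_sum, MonoidAlgebra.single_mul_single, mul_one, hom,
      ← Finset.sum_div] at h2
    rw [div_eq_iff (irr_one_ne_zero χ)] at h2
    rw [h2]; ring
  have hright : ∑ a ∈ I, ∑ b ∈ I, (if orderOf (a * b) = 2 then (4 : ℂ)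
      else if orderOf (a * b) = 4 then 2 else 0) =
      ∑ a ∈ I, ∑ b ∈ I, ((principal G : G → ℂ) (a * b) + c A * (A : G → ℂ) (a * b) +
        c B * (B : G → ℂ) (a * b)) :=
    Finset.sum_congr rfl fun a _ => Finset.sum_congr rfl fun b _ => by rw [← hF, hthree]
  rw [hleft] at hright
  simp only [Finset.sum_add_distrib, ← Finset.mul_sum, hscal, hT, irr_one_eq_charDegree, hAT, hBT,
    hTp] at hright
  rw [show charDegree (principal G : G → ℂ) = 1 by simp [charDegree, principal]] at hright
  have hI8 : 8 * I.card = Nat.card G := by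
    rw [hindex, ← card_centralizer hS ht, Subgroup.card_mul_index]
  set dA := charDegree (A : G → ℂ) with hdA
  set dB := charDegree (B : G → ℂ) with hdB
  have pA : 0 < dA := charDegree_pos A
  have pB : 0 < dB := charDegree_pos B
  have hAm := hmod A
  rw [hAT, hA1, ← hdA] at hAm
  have key : (256 : ℤ) * dA * dB = (Nat.card G : ℤ) * (dA * dB + c A * dB + 4 * c B * dA) := by
    have hI0 : (I.card : ℂ) ≠ 0 := by
      rw [hindex]; exact Nat.cast_ne_zero.2 Subgroup.index_ne_zero_of_finite
    have a0 : (dA : ℂ) ≠ 0 := Nat.cast_ne_zero.2 pA.ne'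
    have b0 : (dB : ℂ) ≠ 0 := Nat.cast_ne_zero.2 pB.ne'
    have hA2 : (c A : ℂ) ^ 2 = 1 := by rcases hAc with e | e <;> rw [e] <;> norm_num
    have hB2 : (c B : ℂ) ^ 2 = 1 := by rcases hBc with e | e <;> rw [e] <;> norm_num
    have hG : (Nat.card G : ℂ) = 8 * (I.card : ℂ) := by rw [← hI8]; push_cast; rfl
    have : (256 : ℂ) * dA * dB = (Nat.card G : ℂ) * (dA * dB + c A * dB + 4 * c B * dA) := by
      apply mul_left_cancel₀ hI0
      rw [hG]
      field_simp at hright ⊢
      push_cast at hright
      linear_combination 8 * hright + 8 * (I.card : ℂ) * (dB : ℂ) * (c A : ℂ) * hA2 +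
        32 * (I.card : ℂ) * (dA : ℂ) * (c B : ℂ) * hB2
    exact_mod_cast this
  have h8 : 8 ∣ Nat.card G := ⟨_, hI8.symm⟩
  generalize Nat.card G = g at key h8 ⊢
  rcases hAc with eA | eA <;> rw [eA] at key hdeg hAm
  · have eB : c B = -1 := by rcases hBc with e | e <;> rw [e] at hdeg <;> omega
    rw [eB] at key hdeg
    obtain ⟨k, hk⟩ : ∃ k : ℕ, dA = 8 * k + 1 := ⟨dA / 8, by omega⟩
    have hB : dB = 8 * k + 2 := by omega
    rw [hk, hB] at key
    push_cast at key
    have h2 : 8 * (8 * k + 1) * (4 * k + 1) = g * k ^ 2 := by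
      have : ((8 * (8 * k + 1) * (4 * k + 1) : ℕ) : ℤ) = ((g * k ^ 2 : ℕ) : ℤ) := by
        push_cast; linarith [key]
      exact_mod_cast this
    have hco : Nat.Coprime (k ^ 2) ((8 * k + 1) * (4 * k + 1)) := by
      refine Nat.Coprime.pow_left 2 (Nat.Coprime.mul_right ?_ ?_)
      · exact Nat.coprime_of_dvd' fun d _ h1 h2 => (Nat.dvd_add_right (h1.mul_left 8)).1 h2
      · exact Nat.coprime_of_dvd' fun d _ h1 h2 => (Nat.dvd_add_right (h1.mul_left 4)).1 h2
    have hk8 : k ^ 2 ∣ 8 := hco.dvd_of_dvd_mul_right ⟨g, by rw [← mul_assoc, h2]; ring⟩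
    have hkle : k ≤ 2 := by
      have := Nat.le_of_dvd (by norm_num) hk8
      nlinarith
    interval_cases k <;> norm_num at h2 <;> omega
  · have eB : c B = 1 := by
      rcases hBc with e | e
      · exact e
      · rw [e] at hdeg; omega
    rw [eB] at key hdeg
    obtain ⟨k, hk⟩ : ∃ k : ℕ, dA = 8 * k + 7 := ⟨dA / 8, by omega⟩
    have hB : dB = 8 * k + 6 := by omega
    rw [hk, hB] at key
    push_cast at key
    have h2 : 8 * (8 * k + 7) * (4 * k + 3) = g * (k + 1) ^ 2 := by
      have : ((8 * (8 * k + 7) * (4 * k + 3) : ℕ) : ℤ) = ((g * (k + 1) ^ 2 : ℕ) : ℤ) := by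
        push_cast; linarith [key]
      exact_mod_cast this
    have hco : Nat.Coprime ((k + 1) ^ 2) ((8 * k + 7) * (4 * k + 3)) := by
      refine Nat.Coprime.pow_left 2 (Nat.Coprime.mul_right ?_ ?_)
      · refine Nat.coprime_of_dvd' fun d _ h1 h2 => ?_
        have h3 := h1.mul_left 8
        rw [show 8 * (k + 1) = (8 * k + 7) + 1 by ring] at h3
        exact (Nat.dvd_add_right h2).1 h3
      · refine Nat.coprime_of_dvd' fun d _ h1 h2 => ?_
        have h3 := h1.mul_left 4
        rw [show 4 * (k + 1) = (4 * k + 3) + 1 by ring] at h3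
        exact (Nat.dvd_add_right h2).1 h3
    have hk8 : (k + 1) ^ 2 ∣ 8 := hco.dvd_of_dvd_mul_right ⟨g, by rw [← mul_assoc, h2]; ring⟩
    have hkle : k ≤ 1 := by
      have := Nat.le_of_dvd (by norm_num) hk8
      nlinarith
    interval_cases k <;> norm_num at h2 <;> omega

end Char

/-- The group is simple. -/
theorem isSimple : IsSimpleGroup G := by
  classical
  haveI : Fact (Nat.Prime 2) := ⟨Nat.prime_two⟩
  haveI := Fintype.ofFinite G
  obtain ⟨t, ht⟩ := hS.exists_invol
  haveI : Nontrivial G := ⟨⟨t, 1, Invol.ne_one ht⟩⟩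
  obtain ⟨e⟩ := hS.equiv t ht
  refine ⟨fun N hN => ?_⟩
  have hcard : Nat.card G = 168 ∨ Nat.card G = 360 := card_eq hS
  have hC8 := card_centralizer hS ht
  by_cases heven : 2 ∣ Nat.card N
  · right
    obtain ⟨u, hu⟩ := exists_prime_orderOf_dvd_card' (p := 2) heven
    have hu' : orderOf (u : G) = 2 := by rw [Subgroup.orderOf_coe, hu]
    have hall : ∀ v : G, orderOf v = 2 → v ∈ N := by
      intro v hv
      obtain ⟨x, rfl⟩ := isConj_iff.1 (hS.conj _ v hu' hv)
      exact hN.conj_mem _ u.2 x
    have hgen : ∀ y : DihedralGroup 4, ∃ a b : DihedralGroup 4,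
        a * a = 1 ∧ b * b = 1 ∧ a * b = y := by decide
    have hCN : Subgroup.centralizer ({t} : Set G) ≤ N := by
      intro y hy
      obtain ⟨a, b, ha, hb, hab⟩ := hgen (e ⟨y, hy⟩)
      have hinv : ∀ a : DihedralGroup 4, a * a = 1 → (e.symm a : G) ∈ N := by
        intro a ha
        by_cases h1 : (e.symm a : G) = 1
        · rw [h1]; exact one_mem _
        · exact hall _ (Invol.order_two_of_sq
            (congrArg Subtype.val (show e.symm a * e.symm a = 1 by rw [← map_mul, ha, map_one])) h1)
      have : y = ((e.symm a * e.symm b : Subgroup.centralizer ({t} : Set G)) : G) := by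
        rw [← map_mul, hab, e.symm_apply_apply]
      rw [this]
      exact mul_mem (hinv a ha) (hinv b hb)
    -- Frattini
    obtain ⟨P⟩ : Nonempty (Sylow 2 N) := inferInstance
    have hfr := Sylow.normalizer_sup_eq_top P
    suffices h : Subgroup.normalizer (((P : Subgroup N).map N.subtype : Subgroup G) : Set G) ≤ N by
      rwa [sup_eq_right.2 h] at hfr
    set D := (P : Subgroup N).map N.subtype with hD
    have hDcard : Nat.card D = 8 := by
      rw [hD, Subgroup.card_map_of_injective N.subtype_injective, P.card_eq_multiplicity]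
      have h1 : 8 ∣ Nat.card N := hC8 ▸ Subgroup.card_dvd_of_le hCN
      have hGf : (Nat.card G).factorization 2 = 3 := by
        rcases hcard with h | h <;> rw [h]
        · rw [show (168 : ℕ) = 2 ^ 3 * 21 by norm_num, Nat.factorization_mul (by norm_num) (by norm_num),
            Finsupp.add_apply, Nat.prime_two.factorization_pow, Finsupp.single_eq_same,
            Nat.factorization_eq_zero_of_not_dvd (by norm_num)]
        · rw [show (360 : ℕ) = 2 ^ 3 * 45 by norm_num, Nat.factorization_mul (by norm_num) (by norm_num),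
            Finsupp.add_apply, Nat.prime_two.factorization_pow, Finsupp.single_eq_same,
            Nat.factorization_eq_zero_of_not_dvd (by norm_num)]
      have hle : (Nat.card N).factorization 2 ≤ 3 := hGf ▸
        (Nat.factorization_le_iff_dvd (Nat.card_pos (α := N)).ne' (Nat.card_pos (α := G)).ne').2
          (Subgroup.card_subgroup_dvd_card _) 2
      have hge : 3 ≤ (Nat.card N).factorization 2 :=
        (Nat.prime_two.pow_dvd_iff_le_factorization Nat.card_pos.ne').1 (by rw [show (2:ℕ) ^ 3 = 8 by norm_num]; exact h1)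
      rw [le_antisymm hle hge]; norm_num
    -- an involution central in `D`
    have hDp : IsPGroup 2 D := IsPGroup.of_card (n := 3) (by rw [hDcard]; norm_num)
    haveI : Nontrivial D := Finite.one_lt_card_iff_nontrivial.1 (by rw [hDcard]; norm_num)
    haveI := hDp.center_nontrivial
    obtain ⟨k, hk⟩ := IsPGroup.iff_card.1 (hDp.to_subgroup (Subgroup.center D))
    obtain ⟨z, hz⟩ := exists_prime_orderOf_dvd_card' (p := 2)
      (show 2 ∣ Nat.card (Subgroup.center D) by
        have h1 : 1 < Nat.card (Subgroup.center D) := Finite.one_lt_card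
        rw [hk] at h1 ⊢
        exact dvd_pow_self 2 (by rintro rfl; simp at h1))
    set w : G := ((z : D) : G) with hw
    have hwo : orderOf w = 2 := by rw [hw, Subgroup.orderOf_coe, Subgroup.orderOf_coe, hz]
    have hDw : D = Subgroup.centralizer ({w} : Set G) := by
      refine Subgroup.eq_of_le_of_card_ge (fun y hy => Subgroup.mem_centralizer_singleton_iff.2
        (congrArg Subtype.val (Subgroup.mem_center_iff.1 z.2 ⟨y, hy⟩))) ?_
      rw [card_centralizer hS hwo, hDcard]
    obtain ⟨ew⟩ := hS.equiv w hwo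
    intro x hx
    have hxw : x * w * x⁻¹ ∈ Subgroup.centralizer ({w} : Set G) := by
      rw [← hDw]; exact (Subgroup.mem_normalizer_iff.1 hx w).1 (z : D).2
    have hc := d8_central (ew ⟨x * w * x⁻¹, hxw⟩)
      (by rw [← map_mul, EmbeddingLike.map_eq_one_iff]
          exact Subtype.ext (by
            show x * w * x⁻¹ * (x * w * x⁻¹) = 1
            rw [show x * w * x⁻¹ * (x * w * x⁻¹) = x * (w * w) * x⁻¹ by group, Invol.mul_self hwo]
            group))
      (by rw [Ne, EmbeddingLike.map_eq_one_iff]
          exact fun h => Invol.ne_one hwo (conj_eq_one_iff.1 (congrArg Subtype.val h)))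
      (fun y => by
        obtain ⟨v, rfl⟩ := ew.surjective y
        rw [← map_mul, ← map_mul]
        refine congrArg ew (Subtype.ext ?_)
        show x * w * x⁻¹ * (v : G) = (v : G) * (x * w * x⁻¹)
        have hv : x⁻¹ * (v : G) * x ∈ D := by
          have h := (Subgroup.mem_normalizer_iff.1 (inv_mem hx) (v : G)).1 (by rw [hDw]; exact v.2)
          simpa using h
        rw [hDw] at hv
        have h1 := Subgroup.mem_centralizer_singleton_iff.1 hv
        calc x * w * x⁻¹ * (v : G) = x * (w * (x⁻¹ * (v : G) * x)) * x⁻¹ := by group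
          _ = x * ((x⁻¹ * (v : G) * x) * w) * x⁻¹ := by rw [h1]
          _ = _ := by group)
    rw [← map_self hwo ew] at hc
    have hfix : x * w * x⁻¹ = w := congrArg Subtype.val (ew.injective hc)
    have hxD : x ∈ D := by
      rw [hDw]; exact Subgroup.mem_centralizer_singleton_iff.2 (mul_inv_eq_iff_eq_mul.1 hfix)
    exact (Subgroup.map_subtype_le _) hxD
  · left
    rw [Subgroup.eq_bot_iff_forall]
    intro n hn
    -- a four-group of fixed-point-free involutions
    obtain ⟨b, hb, htb⟩ : ∃ b : G, orderOf b = 2 ∧ orderOf (t * b) = 2 := by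
      have h := card_comm hS ht
      obtain ⟨⟨b, hb⟩⟩ : Nonempty {b : G // orderOf b = 2 ∧ orderOf (t * b) = 2} :=
        (Nat.card_pos_iff.1 (by omega)).1
      exact ⟨b, hb⟩
    have hinv : ∀ w : G, orderOf w = 2 → ∀ n ∈ N, w * n * w⁻¹ = n⁻¹ := by
      intro w hw
      have hfix : ∀ m ∈ N, w * m * w⁻¹ = m → m = 1 := by
        intro m hm hmw
        by_contra h1
        have hC : m ∈ Subgroup.centralizer ({w} : Set G) :=
          Subgroup.mem_centralizer_singleton_iff.2 (mul_inv_eq_iff_eq_mul.1 hmw).symm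
        have hd : orderOf m ∣ 8 := card_centralizer hS hw ▸ Subgroup.orderOf_dvd_natCard _ hC
        have h2 : orderOf m ∣ Nat.card N := Subgroup.orderOf_dvd_natCard _ hm
        obtain ⟨i, -, hi⟩ := (Nat.dvd_prime_pow Nat.prime_two).1 (show orderOf m ∣ 2 ^ 3 by simpa using hd)
        rcases Nat.eq_zero_or_pos i with rfl | hipos
        · exact h1 (orderOf_eq_one_iff.1 (by simpa using hi))
        · exact heven ((dvd_pow_self 2 hipos.ne').trans (hi ▸ h2))
      -- the map `m ↦ m⁻¹ w m w⁻¹` is injective on `N`, hence onto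
      let f : N → N := fun m => ⟨(m : G)⁻¹ * (w * m * w⁻¹),
        mul_mem (inv_mem m.2) (hN.conj_mem _ m.2 w)⟩
      have hf : Function.Injective f := by
        intro a c hac
        have h' : (a : G)⁻¹ * (w * a * w⁻¹) = (c : G)⁻¹ * (w * c * w⁻¹) := congrArg Subtype.val hac
        have h3 : w * ((a : G) * (c : G)⁻¹) * w⁻¹ = (a : G) * (c : G)⁻¹ := by
          calc w * ((a : G) * (c : G)⁻¹) * w⁻¹ = (w * a * w⁻¹) * (w * c * w⁻¹)⁻¹ := by group
            _ = (a : G) * ((a : G)⁻¹ * (w * a * w⁻¹)) * (w * c * w⁻¹)⁻¹ := by group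
            _ = (a : G) * ((c : G)⁻¹ * (w * c * w⁻¹)) * (w * c * w⁻¹)⁻¹ := by rw [h']
            _ = (a : G) * (c : G)⁻¹ := by group
        exact Subtype.ext (mul_inv_eq_one.1 (hfix _ (mul_mem a.2 (inv_mem c.2)) h3))
      intro n hn
      obtain ⟨m, hm⟩ := (Finite.injective_iff_surjective.1 hf) ⟨n, hn⟩
      have hm' : (m : G)⁻¹ * (w * m * w⁻¹) = n := congrArg Subtype.val hm
      rw [← hm']
      calc w * ((m : G)⁻¹ * (w * m * w⁻¹)) * w⁻¹ = (w * (m : G)⁻¹ * w⁻¹) * ((w * w) * m * (w * w)⁻¹) := by group
        _ = _ := by rw [Invol.mul_self hw]; group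
    have h1 := hinv (t * b) htb n hn
    have h2 : (t * b) * n * (t * b)⁻¹ = n := by
      calc (t * b) * n * (t * b)⁻¹ = t * (b * n * b⁻¹) * t⁻¹ := by group
        _ = t * n⁻¹ * t⁻¹ := by rw [hinv b hb n hn]
        _ = (n⁻¹)⁻¹ := hinv t ht _ (inv_mem hn)
        _ = n := inv_inv n
    rw [h2] at h1
    have hsq : n * n = 1 := by nth_rw 2 [h1]; exact mul_inv_cancel n
    by_contra hne
    exact heven ((Invol.order_two_of_sq hsq hne) ▸ Subgroup.orderOf_dvd_natCard _ hn)

end Cfsg.Agent.CentD8
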