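import Cfsg.Prelude.Def_TwoFusion
import Cfsg.Agent.Lib.Involutions.Basic

/-!
Isolated involutions: products of two conjugates have odd order.
-/

namespace Cfsg.Agent.Invol

variable {G : Type*} [Group G] [Finite G] {z : G}

theorem iso_conj_odd (hz : Cfsg.IsIsolatedInvolution z) (g : G) :
    Odd (orderOf (z * (g * z * g⁻¹))) := by
  by_contra hodd
  rw [Nat.not_odd_iff_even] at hodd
  have hv : orderOf (g * z * g⁻¹) = 2 := by rw [order_conj, hz.1]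
  have hs := mul_half_spec hz.1 hv hodd (orderOf_pos _)
  refine hs.2 ?_
  by_cases h4 : 4 ∣ orderOf (z * (g * z * g⁻¹))
  · obtain ⟨d, -, hd⟩ := conj_mul_half_of_four_dvd hz.1 hv h4
    rw [← hd]; exact hz.2 d (hd ▸ hs.1)
  · obtain ⟨d, -, hd⟩ := conj_y_mul_half hz.1 hv hodd h4
    have e : d * g * z * (d * g)⁻¹ =
        z * (z * (g * z * g⁻¹)) ^ (orderOf (z * (g * z * g⁻¹)) / 2) := by
      rw [← hd]; group
    rw [← e]; exact hz.2 (d * g) (e ▸ hs.1)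

/-- Any product of two conjugates of an isolated involution has odd order. -/
theorem iso_pair_odd (hz : Cfsg.IsIsolatedInvolution z) (g h : G) :
    Odd (orderOf (g * z * g⁻¹ * (h * z * h⁻¹))) := by
  have e : g * z * g⁻¹ * (h * z * h⁻¹) = g * (z * (g⁻¹ * h * z * (g⁻¹ * h)⁻¹)) * g⁻¹ := by group
  rw [e, order_conj]
  exact iso_conj_odd hz _

/-- Elements inverted by an involution with a product of odd order: a square root. -/
theorem sqrt_unique {a b : G} (ha : Odd (orderOf a)) (hb : Odd (orderOf b)) (h : a ^ 2 = b ^ 2) :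
    a = b := by
  obtain ⟨m, hm⟩ := ha.mul hb
  have e : ∀ c : G, orderOf c ∣ orderOf a * orderOf b → (c ^ 2) ^ (m + 1) = c := by
    intro c hc
    rw [← pow_mul, show 2 * (m + 1) = orderOf a * orderOf b + 1 by omega, pow_succ,
      orderOf_dvd_iff_pow_eq_one.mp hc, one_mul]
  rw [← e a (dvd_mul_right _ _), ← e b (dvd_mul_left _ _), h]

/-- Conjugation by an inverted element. -/
theorem inverted_conj {k t : G} (ht : orderOf t = 2) (h : t * k * t⁻¹ = k⁻¹) :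
    k * t * k⁻¹ = k ^ 2 * t := by
  have := zpow_mul_conj h 1
  simpa [pow_two, zpow_two] using this

/-- Every coset of the centralizer contains an inverted element of odd order. -/
theorem iso_decomp (hz : Cfsg.IsIsolatedInvolution z) (g : G) :
    ∃ k : G, (Odd (orderOf k) ∧ z * k * z⁻¹ = k⁻¹) ∧
      g⁻¹ * k ∈ Subgroup.centralizer ({z} : Set G) := by
  have hv : orderOf (g * z * g⁻¹) = 2 := by rw [order_conj, hz.1]
  set a := z * (g * z * g⁻¹) with ha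
  have hodd : Odd (orderOf a) := iso_conj_odd hz g
  obtain ⟨j, hj⟩ := exists_sqrt hodd
  have hinv : z * (a ^ j)⁻¹ * z⁻¹ = (a ^ j)⁻¹⁻¹ := by
    rw [← _root_.conj_inv, conj_pow (conj_mul hz.1 hv) j]
  have ho : Odd (orderOf (a ^ j)⁻¹) := by
    rw [orderOf_inv]; exact hodd.of_dvd_nat (orderOf_pow_dvd _)
  refine ⟨(a ^ j)⁻¹, ⟨ho, hinv⟩, ?_⟩
  have hk : (a ^ j)⁻¹ * z * (a ^ j)⁻¹⁻¹ = g * z * g⁻¹ := by
    rw [inverted_conj hz.1 hinv, inv_pow, hj, ha, mul_inv_rev, inv_self hz.1, inv_self hv,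
      mul_assoc, mul_self hz.1, mul_one]
  rw [Subgroup.mem_centralizer_singleton_iff]
  calc g⁻¹ * (a ^ j)⁻¹ * z = g⁻¹ * ((a ^ j)⁻¹ * z * (a ^ j)⁻¹⁻¹) * (a ^ j)⁻¹ := by group
    _ = g⁻¹ * (g * z * g⁻¹) * (a ^ j)⁻¹ := by rw [hk]
    _ = z * (g⁻¹ * (a ^ j)⁻¹) := by group

theorem iso_decomp_unique {k₁ k₂ g : G} (hzo : orderOf z = 2)
    (h₁ : Odd (orderOf k₁) ∧ z * k₁ * z⁻¹ = k₁⁻¹) (h₂ : Odd (orderOf k₂) ∧ z * k₂ * z⁻¹ = k₂⁻¹)
    (hc₁ : g⁻¹ * k₁ ∈ Subgroup.centralizer ({z} : Set G))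
    (hc₂ : g⁻¹ * k₂ ∈ Subgroup.centralizer ({z} : Set G)) : k₁ = k₂ := by
  refine sqrt_unique h₁.1 h₂.1 (mul_right_cancel (b := z) ?_)
  rw [← inverted_conj hzo h₁.2, ← inverted_conj hzo h₂.2]
  have e : ∀ k : G, g⁻¹ * k ∈ Subgroup.centralizer ({z} : Set G) → k * z * k⁻¹ = g * z * g⁻¹ := by
    intro k hk
    have h := Subgroup.mem_centralizer_singleton_iff.mp hk
    calc k * z * k⁻¹ = g * (g⁻¹ * k * z) * k⁻¹ := by group
      _ = g * (z * (g⁻¹ * k)) * k⁻¹ := by rw [h]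
      _ = g * z * g⁻¹ := by group
  rw [e k₁ hc₁, e k₂ hc₂]

end Cfsg.Agent.Invol
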