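import Cfsg.Prelude.Def_TwoFusion
import Cfsg.Agent.Lib.Involutions.Isolated

/-!
The centralizer of an isolated involution controls fusion of its elements; symmetric-space midpoints.
-/

set_option autoImplicit false

namespace Cfsg.Agent.Invol

variable {G : Type*} [Group G] [Finite G] {z : G}

theorem iso_controls_fusion (hz : Cfsg.IsIsolatedInvolution z) {x g : G}
    (hx : x ∈ Subgroup.centralizer ({z} : Set G))
    (hy : g * x * g⁻¹ ∈ Subgroup.centralizer ({z} : Set G)) :
    ∃ c ∈ Subgroup.centralizer ({z} : Set G), c * x * c⁻¹ = g * x * g⁻¹ := by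
  have hv : orderOf (g * z * g⁻¹) = 2 := by rw [order_conj, hz.1]
  have hodd : Odd (orderOf (g * z * g⁻¹ * z)) := by
    simpa using iso_pair_odd hz g 1
  obtain ⟨d, hd, hdv⟩ := conj_of_odd hv hz.1 hodd
  have hle : Subgroup.closure ({g * z * g⁻¹, z} : Set G) ≤
      Subgroup.centralizer ({g * x * g⁻¹} : Set G) := by
    rw [Subgroup.closure_le]
    have h1 : Commute x z := Subgroup.mem_centralizer_singleton_iff.mp hx
    have h2 : Commute (g * x * g⁻¹) z := Subgroup.mem_centralizer_singleton_iff.mp hy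
    rintro w (rfl | rfl)
    · exact Subgroup.mem_centralizer_singleton_iff.mpr ((h1.map (MulAut.conj g)).eq.symm)
    · exact Subgroup.mem_centralizer_singleton_iff.mpr h2.eq.symm
  have hdy : d * (g * x * g⁻¹) = (g * x * g⁻¹) * d :=
    Subgroup.mem_centralizer_singleton_iff.mp (hle hd)
  refine ⟨d * g, Subgroup.mem_centralizer_singleton_iff.mpr (mul_inv_eq_iff_eq_mul.mp ?_), ?_⟩
  · calc d * g * z * (d * g)⁻¹ = d * (g * z * g⁻¹) * d⁻¹ := by group
      _ = z := hdv
  · calc d * g * x * (d * g)⁻¹ = d * (g * x * g⁻¹) * d⁻¹ := by group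
      _ = g * x * g⁻¹ := mul_inv_eq_iff_eq_mul.mpr hdy

/-- Two reflections at elements of the class agreeing on a third one are equal. -/
theorem iso_midpoint_unique (hz : Cfsg.IsIsolatedInvolution z) (g a b : G)
    (h : a * z * a⁻¹ * (g * z * g⁻¹) * (a * z * a⁻¹) =
      b * z * b⁻¹ * (g * z * g⁻¹) * (b * z * b⁻¹)) :
    a * z * a⁻¹ = b * z * b⁻¹ := by
  have hue := iso_pair_odd hz b a
  have hee := iso_pair_odd hz g a
  have hx : orderOf (g * z * g⁻¹) = 2 := by rw [order_conj, hz.1]
  have hm : orderOf (a * z * a⁻¹) = 2 := by rw [order_conj, hz.1]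
  have hm' : orderOf (b * z * b⁻¹) = 2 := by rw [order_conj, hz.1]
  generalize g * z * g⁻¹ = x at *
  generalize a * z * a⁻¹ = m at *
  generalize b * z * b⁻¹ = m' at *
  set u := m' * m with hu
  have hxu : Commute x u := by
    have h2 := congrArg (fun t => m' * t * m) h
    simp only [mul_assoc, mul_self hm, mul_one] at h2
    simp only [← mul_assoc, mul_self hm', one_mul] at h2
    show x * u = u * x
    rw [hu, ← mul_assoc, ← h2]
  have hmu : m * u * m⁻¹ = u⁻¹ := by
    rw [hu, inv_self hm, mul_inv_rev, inv_self hm, inv_self hm', mul_assoc, mul_assoc, mul_self hm,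
      mul_one]
  have he : (x * m) * u * (x * m)⁻¹ = u⁻¹ := by
    calc (x * m) * u * (x * m)⁻¹ = x * (m * u * m⁻¹) * x⁻¹ := by group
      _ = u⁻¹ := by rw [hmu, hxu.inv_right.eq]; group
  have hiter : ∀ n : ℕ, (x * m) ^ n * u * ((x * m) ^ n)⁻¹ = u ^ ((-1 : ℤ) ^ n) := by
    intro n
    induction n with
    | zero => simp
    | succ n ih =>
      rw [pow_succ' (x * m)]
      calc x * m * (x * m) ^ n * u * (x * m * (x * m) ^ n)⁻¹
          = x * m * ((x * m) ^ n * u * ((x * m) ^ n)⁻¹) * (x * m)⁻¹ := by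
            simp only [mul_inv_rev, mul_assoc]
        _ = (x * m * u * (x * m)⁻¹) ^ ((-1 : ℤ) ^ n) := by rw [ih, _root_.conj_zpow]
        _ = u ^ ((-1 : ℤ) ^ (n + 1)) := by rw [he, inv_zpow', pow_succ, mul_neg_one]
  have h1 := hiter (orderOf (x * m))
  rw [pow_orderOf_eq_one, one_mul, inv_one, mul_one, hee.neg_one_pow, zpow_neg_one] at h1
  have h2 : u ^ 2 = 1 := by rw [pow_two]; exact mul_eq_one_iff_eq_inv.mpr h1
  have h3 := eq_one_of_sq_of_odd hue h2
  rw [hu, mul_eq_one_iff_eq_inv, inv_self hm] at h3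
  exact h3.symm

end Cfsg.Agent.Invol
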