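import Cfsg.Agent.Lib.Isolated.Invariant
import Cfsg.Agent.Lib.BrauerSuzuki.ZStar
import Cfsg.Agent.Lib.Involutions.Isolated

/-!
Invariant Sylow subgroups for an isolated involution.
-/

set_option autoImplicit false
set_option linter.style.haveILetI false

namespace Cfsg.Agent.IsoSylow

open Cfsg.Agent

universe u

variable {G : Type u} [Group G] [Finite G] {z : G}

theorem sylow_of_maximal (hz : Cfsg.IsIsolatedInvolution z) {q : ℕ} [Fact q.Prime] (Q : Subgroup G)
    (hQ : IsPGroup q Q) (hzQ : z ∈ Subgroup.normalizer (Q : Set G))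
    (hmax : ∀ R : Subgroup G, IsPGroup q R → z ∈ Subgroup.normalizer (R : Set G) → Q ≤ R → R = Q) :
    ∃ S : Sylow q G, (S : Subgroup G) = Q := by
  haveI : Fact (Nat.Prime 2) := ⟨Nat.prime_two⟩
  have hiso : Cfsg.IsIsolated z := hz.2
  have hpow : ∃ k : ℕ, orderOf z = 2 ^ k := ⟨1, by rw [hz.1, pow_one]⟩
  by_cases hq2 : q = 2
  · subst hq2
    have hxp := IsolatedP.isPGroup_zpowers hpow
    have hQx : z ∈ Q := by
      have h := hmax _ (IsPGroup.to_sup_of_normal_left' hQ hxp (Subgroup.zpowers_le.2 hzQ))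
        (Subgroup.le_normalizer (Subgroup.mem_sup_right (Subgroup.mem_zpowers z))) le_sup_left
      rw [← h]; exact Subgroup.mem_sup_right (Subgroup.mem_zpowers z)
    obtain ⟨S, hS⟩ := hQ.exists_le_sylow
    exact ⟨S, hmax _ S.isPGroup' (Subgroup.le_normalizer (hS hQx)) hS⟩
  set H := Subgroup.normalizer (Q : Set G) with hH
  haveI : (Q.subgroupOf H).Normal := Subgroup.normal_subgroupOf_of_le_normalizer le_rfl
  have hzH : orderOf (⟨z, hzQ⟩ : H) = 2 := by rw [Subgroup.orderOf_mk]; exact hz.1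
  have hidx : ¬ q ∣ (Q.subgroupOf H).index :=
    IsolatedP.sylow_of_maximal_normal hq2 ⟨1, by rw [hzH, pow_one]⟩
      (IsolatedP.isolated_subtype hzQ hiso)
      (BrauerSuzuki.zStar H ⟨z, hzQ⟩ hzH (IsolatedP.isolated_subtype hzQ hiso)) _
      (hQ.comap_of_injective H.subtype H.subtype_injective)
      fun R hR hzR hle => by
        have h1 := hmax (R.map H.subtype) (hR.map _) ?_ ?_
        · rw [← h1, Subgroup.subgroupOf, Subgroup.comap_map_eq_self_of_injective H.subtype_injective]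
        · rw [← LEBasic.map_conj_eq_iff_mem_normalizer, Subgroup.map_map]
          conv_rhs => rw [← LEBasic.map_conj_eq_iff_mem_normalizer.2 hzR, Subgroup.map_map]
          congr 1
        · intro y hy
          exact ⟨⟨y, Subgroup.le_normalizer hy⟩, hle hy, rfl⟩
  refine LESylow.exists_sylow_eq hQ fun R hR hQR hRH => ?_
  have hS := ((hQ.comap_of_injective H.subtype H.subtype_injective).toSylow hidx).is_maximal'
    (Q := R.subgroupOf H) (hR.comap_of_injective H.subtype H.subtype_injective) (Subgroup.comap_mono hQR)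
  intro y hy
  exact (show (⟨y, hRH hy⟩ : ↥H) ∈ Q.subgroupOf H from hS.le hy)

omit [Finite G] in
theorem mem_normalizer_of_centralized {R : Subgroup G}
    (h : R ≤ Subgroup.centralizer ({z} : Set G)) : z ∈ Subgroup.normalizer (R : Set G) := by
  rw [Subgroup.mem_normalizer_iff]
  have key : ∀ r ∈ R, z * r * z⁻¹ = r := fun r hr => by
    rw [← Subgroup.mem_centralizer_singleton_iff.mp (h hr), mul_inv_cancel_right]
  intro y
  refine ⟨fun hy => (key y hy).symm ▸ hy, fun hy => ?_⟩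
  have h2 : z * y * z⁻¹ = y := mul_left_cancel (mul_right_cancel (key _ hy))
  rwa [h2] at hy

/-- A `z`-invariant Sylow subgroup meets `C(z)` in a Sylow subgroup. -/
theorem sylow_inf_centralizer (hz : Cfsg.IsIsolatedInvolution z) {q : ℕ} [Fact q.Prime] (P : Sylow q G)
    (hzP : z ∈ Subgroup.normalizer ((P : Subgroup G) : Set G)) :
    ¬ q ∣ ((P : Subgroup G) ⊓ Subgroup.centralizer ({z} : Set G)).relIndex
      (Subgroup.centralizer ({z} : Set G)) := by
  haveI : Fact (Nat.Prime 2) := ⟨Nat.prime_two⟩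
  set C := Subgroup.centralizer ({z} : Set G) with hC
  obtain ⟨T⟩ : Nonempty (Sylow q C) := inferInstance
  set R := (T : Subgroup C).map C.subtype with hR
  obtain ⟨Q, hRQ, hQmax⟩ := Finite.exists_le_maximal
    (p := fun K : Subgroup G => IsPGroup q K ∧ z ∈ Subgroup.normalizer (K : Set G)) (a := R)
    ⟨T.isPGroup'.map _, mem_normalizer_of_centralized (Subgroup.map_subtype_le _)⟩
  obtain ⟨S, hS⟩ := sylow_of_maximal hz Q hQmax.1.1 hQmax.1.2
    fun K hK hzK hle => le_antisymm (hQmax.2 ⟨hK, hzK⟩ hle) hle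
  obtain ⟨c, hc, hcS⟩ := IsolatedP.centralizer_transitive ⟨1, by rw [hz.1, pow_one]⟩ hz.2 S P
    (hS ▸ hQmax.1.2) hzP
  have hRS : R ≤ (S : Subgroup G) := hS ▸ hRQ
  have hle : R.map (MulAut.conj c).toMonoidHom ≤ (P : Subgroup G) ⊓ C := by
    refine le_inf (hcS ▸ Subgroup.map_mono hRS) ?_
    rintro _ ⟨r, hr, rfl⟩
    exact mul_mem (mul_mem hc (Subgroup.map_subtype_le _ hr)) (inv_mem hc)
  have hcC : C.map (MulAut.conj c).toMonoidHom = C :=
    Subgroup.mem_normalizer_iff_map_conj_eq.mp (Subgroup.le_normalizer hc)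
  intro hd
  refine T.not_dvd_index (hd.trans ?_)
  have h1 := Subgroup.relIndex_dvd_of_le_left (L := C) hle
  refine h1.trans ?_
  conv_lhs => rw [← hcC]
  rw [Subgroup.relIndex_map_map_of_injective _ _ (MulAut.conj c).injective, Subgroup.relIndex, hR,
    Subgroup.subgroupOf, Subgroup.comap_map_eq_self_of_injective C.subtype_injective]

/-- `|P : C_P(z)|` counts the elements of `P` inverted by `z`. -/
theorem card_inverted (hz : Cfsg.IsIsolatedInvolution z) {q : ℕ} [Fact q.Prime] (hq : q ≠ 2)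
    (P : Sylow q G) (hzP : z ∈ Subgroup.normalizer ((P : Subgroup G) : Set G)) :
    ((P : Subgroup G) ⊓ Subgroup.centralizer ({z} : Set G)).relIndex (P : Subgroup G) =
      Nat.card {x : G // x ∈ P ∧ z * x * z⁻¹ = x⁻¹} := by
  set C := Subgroup.centralizer ({z} : Set G) with hC
  have hodd : ∀ x ∈ (P : Subgroup G), Odd (orderOf x) := by
    intro x hx
    obtain ⟨k, hk⟩ := IsPGroup.iff_orderOf.mp P.isPGroup' ⟨x, hx⟩
    rw [Subgroup.orderOf_mk] at hk
    rw [hk]
    exact ((Fact.out : q.Prime).odd_of_ne_two hq).pow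
  rw [Subgroup.inf_relIndex_left]
  refine (Nat.card_eq_of_bijective (fun x : {x : G // x ∈ P ∧ z * x * z⁻¹ = x⁻¹} =>
    (QuotientGroup.mk (⟨x.1, x.2.1⟩ : (P : Subgroup G)) :
      (P : Subgroup G) ⧸ C.subgroupOf (P : Subgroup G))) ⟨?_, ?_⟩).symm
  · rintro ⟨x, hx, hxi⟩ ⟨y, hy, hyi⟩ e
    have hxy : x⁻¹ * y ∈ C := (QuotientGroup.eq (s := C.subgroupOf (P : Subgroup G))).mp e
    exact Subtype.ext (Invol.iso_decomp_unique hz.1 ⟨hodd x hx, hxi⟩ ⟨hodd y hy, hyi⟩
      (by rw [inv_mul_cancel]; exact one_mem _) hxy)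
  · intro r
    obtain ⟨⟨g, hg⟩, rfl⟩ := QuotientGroup.mk_surjective r
    obtain ⟨k, ⟨hko, hki⟩, hgk⟩ := Invol.iso_decomp hz g
    have h1 : k * z * k⁻¹ = g * z * g⁻¹ := by
      have h := Subgroup.mem_centralizer_singleton_iff.mp hgk
      calc k * z * k⁻¹ = g * (g⁻¹ * k * z) * k⁻¹ := by group
        _ = g * (z * (g⁻¹ * k)) * k⁻¹ := by rw [h]
        _ = g * z * g⁻¹ := by group
    have hk2 : k ^ 2 ∈ (P : Subgroup G) := by
      have e : k ^ 2 = g * (z * g⁻¹ * z⁻¹) := by
        rw [← mul_inv_cancel_right (k ^ 2) z, ← Invol.inverted_conj hz.1 hki, h1]; group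
      rw [e]
      exact mul_mem hg ((Subgroup.mem_normalizer_iff.mp hzP _).mp (inv_mem hg))
    have hkP : k ∈ (P : Subgroup G) := by
      obtain ⟨j, hj⟩ := hko
      have h2 : (k ^ 2) ^ (j + 1) = k := by
        rw [← pow_mul, show 2 * (j + 1) = orderOf k + 1 by omega, pow_succ, pow_orderOf_eq_one, one_mul]
      rw [← h2]
      exact pow_mem hk2 _
    refine ⟨⟨k, hkP, hki⟩, QuotientGroup.eq.mpr ?_⟩
    show k⁻¹ * g ∈ C
    have := inv_mem hgk
    rwa [mul_inv_rev, inv_inv] at this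

end Cfsg.Agent.IsoSylow
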